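import Cfsg.Agent.Lib.ConwayType.Octad.Levi
import Cfsg.Agent.Lib.Classical.SmallIso

/-!
Two orthogonal four-dimensional spaces of minus type, each given by its five singular vectors.
-/

set_option autoImplicit false
set_option maxRecDepth 20000

namespace Cfsg.Agent.ConwayType.JTwo

open Subgroup Cfsg.Agent.OctadInv.Orbits

/-- The singular vectors of the first space. -/
def pU : Fin 5 → V := ![e1, f1, e1 + f1 + w0, e1 + f1 + k0, e1 + f1 + (w0 + k0)]

/-- The singular vectors of the second space. -/
def pW : Fin 5 → V := ![ww 16, ww 32, ww 55, ww 59, ww 60]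

/-- Combinations of four of the vectors. -/
def comb (P : Fin 5 → V) (a : Fin 16) : V :=
  (if a.1.testBit 0 then P 0 else 0) + (if a.1.testBit 1 then P 1 else 0) +
    (if a.1.testBit 2 then P 2 else 0) + (if a.1.testBit 3 then P 3 else 0)

/-- The five-cycle. -/
def Fv (P : Fin 5 → V) (v : V) : V := R (P 0 + P 1) (R (P 1 + P 2) (R (P 2 + P 3) (R (P 3 + P 4) v)))

/-- The three-cycle. -/
def Tv (P : Fin 5 → V) (v : V) : V := R (P 0 + P 1) (R (P 1 + P 2) v)

/-- The three-cycle on five letters. -/
def tau3 : Fin 5 → Fin 5 := ![1, 2, 0, 3, 4]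

/-- The properties of a pair of spaces. -/
structure IsBlock (P P' : Fin 5 → V) : Prop where
  inj : ∀ i j, P i = P j → i = j
  sing : ∀ i, qf (P i) = 0 ∧ P i ≠ 0
  orth : ∀ i j, bf (P' j) (P i) = 0
  root : ∀ i j, i ≠ j → qf (P i + P j) = 1
  recog : ∀ v, v ≠ 0 → qf v = 0 → (∀ j, bf (P' j) v = 0) → ∃ i, P i = v
  swap : ∀ k, R (P 0 + P 1) (P k) = P (Equiv.swap 0 1 k)
  five : ∀ i, Fv P (P i) = P (i + 1) ∧ Fv P (P' i) = P' i
  three : ∀ i, Tv P (P i) = P (tau3 i) ∧ Tv P (P' i) = P' i
  span : ∀ v, (∀ j, bf (P' j) v = 0) → ∃ a, comb P a = v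
  five_fix : ∀ v, Fv P v = v → ∀ j, bf (P j) v = 0
  five_move : ∀ b, ∃ c, comb P b = Fv P (comb P c) + comb P c
  five_pow : ∀ v, (Fv P)^[5] v = v
  three_pow : ∀ v, (Tv P)^[3] v = v
  comb_inj : ∀ a b, comb P a = comb P b → a = b

theorem blockU : IsBlock pU pW := by constructor <;> decide +kernel

theorem blockW : IsBlock pW pU := by constructor <;> decide +kernel

theorem span_ww : ∀ i : Fin 64, ∃ a b, ww i = comb pU a + comb pW b := by decide +kernel

theorem tau3_shift : ∀ k : Fin 5, (∀ i : Fin 5, tau3 i + k = tau3 (i + k)) → k = 0 := by decide +kernel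

/-- The product for the five-cycle. -/
noncomputable def five (P : Fin 5 → V) : O8 :=
  rfl' (P 0 + P 1) * rfl' (P 1 + P 2) * (rfl' (P 2 + P 3) * rfl' (P 3 + P 4))

/-- The product for the three-cycle. -/
noncomputable def three (P : Fin 5 → V) : O8 := rfl' (P 0 + P 1) * rfl' (P 1 + P 2)

variable {P P' : Fin 5 → V}

theorem act_five (h : IsBlock P P') (v : V) : act (five P) v = Fv P v := by
  rw [five, act_mul, act_mul, act_mul, act_rfl' (h.root 3 4 (by decide)), act_rfl' (h.root 2 3 (by decide)),
    act_rfl' (h.root 1 2 (by decide)), act_rfl' (h.root 0 1 (by decide))]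
  rfl

theorem act_three (h : IsBlock P P') (v : V) : act (three P) v = Tv P v := by
  rw [three, act_mul, act_rfl' (h.root 1 2 (by decide)), act_rfl' (h.root 0 1 (by decide))]
  rfl

theorem five_omega (h : IsBlock P P') : five P ∈ Cfsg.Omega (ZMod 2) ⇑F8 :=
  mul_mem (pair_mem (h.root 0 1 (by decide)) (h.root 1 2 (by decide)))
    (pair_mem (h.root 2 3 (by decide)) (h.root 3 4 (by decide)))

theorem three_omega (h : IsBlock P P') : three P ∈ Cfsg.Omega (ZMod 2) ⇑F8 :=
  pair_mem (h.root 0 1 (by decide)) (h.root 1 2 (by decide))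

theorem act_comb {A : O8} (hA : ∀ i, act A (P i) = P i) (a : Fin 16) : act A (comb P a) = comb P a := by
  have h0 : ∀ (b : Bool) (i : Fin 5), act A (if b then P i else 0) = if b then P i else 0 := by
    intro b i
    cases b
    · exact act_zero A
    · exact hA i
  simp only [comb, act_add, h0]

theorem comb_perp (h : IsBlock P P') (a : Fin 16) (j : Fin 5) : bf (P' j) (comb P a) = 0 := by
  have h0 : ∀ (b : Bool) (i : Fin 5), bf (P' j) (if b then P i else 0) = 0 := by
    intro b i
    cases b
    · exact bf_zero_right _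
    · exact h.orth i j
  simp only [comb, bf_add_right, h0, add_zero]

/-- An isometry fixing both spaces is trivial. -/
theorem act_ext_blocks {A B : O8} (hU : ∀ i, act A (pU i) = act B (pU i))
    (hW : ∀ i, act A (pW i) = act B (pW i)) : A = B := by
  refine (inv_mul_eq_one.1 (ext_act fun v => ?_ : B⁻¹ * A = (1 : O8))).symm
  have h1 : ∀ i, act (B⁻¹ * A) (pU i) = pU i := fun i => by rw [act_mul, hU, act_inv_self]
  have h2 : ∀ i, act (B⁻¹ * A) (pW i) = pW i := fun i => by rw [act_mul, hW, act_inv_self]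
  have key : act (B⁻¹ * A) v = v := by
    obtain ⟨a, b, e⟩ := span_ww (enc (pw v))
    rw [ww_enc (pw_mem v)] at e
    conv_lhs => rw [decomp3 v, e]
    conv_rhs => rw [decomp3 v, e]
    simp only [act_add, act_sm, act_comb h1, act_comb h2, show act (B⁻¹ * A) e1 = e1 from h1 0,
      show act (B⁻¹ * A) f1 = f1 from h1 1]
  rw [key, act_one]

/-- Nothing but zero is orthogonal to both spaces. -/
theorem perp_blocks : ∀ v : V, (∀ i, bf (pU i) v = 0) → (∀ i, bf (pW i) v = 0) → v = 0 := by decide +kernel

/-- Orthogonality is preserved by an isometry permuting a space. -/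
theorem map_perp {A : O8} {σ : Fin 5 → Fin 5} (hσ : Function.Injective σ) (hA : ∀ i, act A (P' i) = P' (σ i))
    {v : V} (hv : ∀ j, bf (P' j) v = 0) (j : Fin 5) : bf (P' j) (act A v) = 0 := by
  obtain ⟨i, rfl⟩ := (Finite.injective_iff_surjective.1 hσ) j
  rw [← hA, act_bf, hv]

/-- An isometry fixing the other space permutes the vectors. -/
theorem exists_map (h : IsBlock P P') {A : O8} {σ : Fin 5 → Fin 5} (hσ : Function.Injective σ)
    (hA : ∀ i, act A (P' i) = P' (σ i)) (i : Fin 5) : ∃ j, act A (P i) = P j := by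
  obtain ⟨h1, h2⟩ := h.sing i
  obtain ⟨j, hj⟩ := h.recog (act A (P i)) (fun e => h2 (by
      rw [← act_inv_self A (P i), e, act_zero])) (by rw [act_qf, h1])
    (map_perp hσ hA fun j => h.orth i j)
  exact ⟨j, hj.symm⟩

/-- Commuting with the five-cycle. -/
theorem shift_of_comm (h : IsBlock P P') {A : O8} (hc : A * five P = five P * A)
    (hm : ∀ i, ∃ j, act A (P i) = P j) : ∃ k, ∀ i, act A (P i) = P (i + k) := by
  obtain ⟨k, hk⟩ := hm 0
  refine ⟨k, fun i => ?_⟩
  have step : ∀ i j, act A (P i) = P j → act A (P (i + 1)) = P (j + 1) := fun i j e => by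
    rw [← (h.five i).1, ← act_five h, ← act_mul, hc, act_mul, e, act_five h, (h.five j).1]
  have h1 := step _ _ hk
  have h2 := step _ _ h1
  have h3 := step _ _ h2
  have h4 := step _ _ h3
  obtain ⟨a1, a2, a3, a4⟩ := (by decide : ∀ k : Fin 5, k + 1 = 1 + k ∧ k + 1 + 1 = 2 + k ∧
    k + 1 + 1 + 1 = 3 + k ∧ k + 1 + 1 + 1 + 1 = 4 + k) k
  rw [a4] at h4
  rw [a3] at h3
  rw [a2] at h2
  rw [a1] at h1
  fin_cases i
  exacts [by simpa using hk, h1, h2, h3, h4]

/-- Commuting with both cycles. -/
theorem fix_of_comm (h : IsBlock P P') {A : O8} (hc : A * five P = five P * A) (hc3 : A * three P = three P * A)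
    (hm : ∀ i, ∃ j, act A (P i) = P j) (i : Fin 5) : act A (P i) = P i := by
  obtain ⟨k, hk⟩ := shift_of_comm h hc hm
  have h0 : k = 0 := tau3_shift k fun j => h.inj _ _ (by
    rw [← hk, ← (h.three j).1, ← act_three h, ← act_mul, hc3, act_mul, hk, act_three h, (h.three _).1])
  rw [hk, h0, add_zero]

/-- The isometries fixing the other space pointwise. -/
noncomputable def blk (P' : Fin 5 → V) : Subgroup O8 where
  carrier := {A | A ∈ Cfsg.Omega (ZMod 2) ⇑F8 ∧ ∀ j, act A (P' j) = P' j}
  one_mem' := ⟨one_mem _, fun j => act_one _⟩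
  mul_mem' := fun {A B} hA hB => ⟨mul_mem hA.1 hB.1, fun j => by rw [act_mul, hB.2, hA.2]⟩
  inv_mem' := fun {A} hA => ⟨inv_mem hA.1, fun j => by
    conv_lhs => rw [← hA.2 j]
    exact act_inv_self A _⟩

theorem five_blk (h : IsBlock P P') : five P ∈ blk P' :=
  ⟨five_omega h, fun j => by rw [act_five h]; exact (h.five j).2⟩

theorem three_blk (h : IsBlock P P') : three P ∈ blk P' :=
  ⟨three_omega h, fun j => by rw [act_three h]; exact (h.three j).2⟩

theorem act_pow (A : O8) (n : ℕ) (v : V) : act (A ^ n) v = (act A)^[n] v := by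
  induction n with
  | zero => rw [pow_zero, act_one]; rfl
  | succ n ih => rw [pow_succ', act_mul, ih, Function.iterate_succ_apply']

theorem five_pow_eq (h : IsBlock P P') : five P ^ 5 = 1 := ext_act fun v => by
  rw [act_pow, act_one, show act (five P) = Fv P from funext (act_five h), h.five_pow]

theorem three_pow_eq (h : IsBlock P P') : three P ^ 3 = 1 := ext_act fun v => by
  rw [act_pow, act_one, show act (three P) = Tv P from funext (act_three h), h.three_pow]

theorem five_ne (h : IsBlock P P') : five P ≠ 1 := fun e => by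
  have h1 := act_five h (P 0)
  rw [e, act_one, (h.five 0).1] at h1
  exact absurd (h.inj _ _ h1) (by decide)

theorem three_ne (h : IsBlock P P') : three P ≠ 1 := fun e => by
  have h1 := act_three h (P 0)
  rw [e, act_one, (h.three 0).1] at h1
  exact absurd (h.inj _ _ h1) (by decide)

theorem five_three (h : IsBlock P P') : five P * three P ≠ three P * five P := fun e => by
  have h1 := congrArg (fun A : O8 => act A (P 2)) e
  simp only [act_mul, act_five h, act_three h] at h1
  rw [(h.three 2).1, (h.five _).1, (h.five 2).1, (h.three _).1] at h1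
  exact absurd (h.inj _ _ h1) (by decide)

/-- The cycles on the two spaces commute. -/
theorem comm_blocks {A B : O8} (hA : A ∈ blk pW) (hB : B ∈ blk pU) : A * B = B * A := by
  refine act_ext_blocks (fun i => ?_) (fun i => ?_)
  · obtain ⟨j, hj⟩ := exists_map blockU (σ := id) Function.injective_id hA.2 i
    rw [act_mul, act_mul, hB.2, hj, hB.2]
  · obtain ⟨j, hj⟩ := exists_map blockW (σ := id) Function.injective_id hB.2 i
    rw [act_mul, act_mul, hA.2, hj, hA.2]

/-- Subgroups of the symmetric group of degree five without a transposition. -/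
theorem eq_alternating (K : Subgroup (Equiv.Perm (Fin 5))) (h15 : 15 ∣ Nat.card K)
    (hs : Equiv.swap 0 1 ∉ K) : K = alternatingGroup (Fin 5) := by
  set A := alternatingGroup (Fin 5)
  have hA : Nat.card A = 60 := by rw [nat_card_alternatingGroup, Nat.card_fin]; rfl
  have hidx : A.index = 2 := alternatingGroup.index_eq_two
  have hnd : Nat.card K ∣ 120 := by
    have := K.card_subgroup_dvd_card
    rwa [Nat.card_perm, Nat.card_fin] at this
  have hle : A ≤ K := by
    set L := K.subgroupOf A
    have h1 : (K ⊓ A).relIndex K ∣ 2 := by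
      rw [inf_relIndex_left, ← hidx]; exact relIndex_dvd_index_of_normal A K
    have hL : 15 ∣ Nat.card L := by
      have e : Nat.card L = Nat.card (K ⊓ A : Subgroup _) := by
        show Nat.card (K.subgroupOf A) = _
        rw [← inf_subgroupOf_right K A, Nat.card_congr (subgroupOfEquivOfLe inf_le_right).toEquiv]
      have h2 : Nat.card (K ⊓ A : Subgroup _) * (K ⊓ A).relIndex K = Nat.card K := by
        rw [← Nat.card_congr (subgroupOfEquivOfLe (inf_le_left : K ⊓ A ≤ K)).toEquiv]
        exact card_mul_index _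
      rw [e]
      refine (Nat.Coprime.dvd_of_dvd_mul_right ?_ (h2 ▸ h15))
      exact Nat.Coprime.coprime_dvd_right h1 (by norm_num)
    have h4 := card_mul_index L
    rw [hA] at h4
    haveI hsimple : IsSimpleGroup A := alternatingGroup.isSimpleGroup_five
    rcases IsSimpleGroup.eq_bot_or_eq_top_of_normal L.normalCore inferInstance with e | e
    · exfalso
      rw [normalCore_eq_ker] at e
      have h5 := card_dvd_of_injective _ ((MonoidHom.ker_eq_bot_iff _).1 e)
      rw [hA, Nat.card_perm, show Nat.card (A ⧸ L) = L.index from rfl] at h5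
      have h7 := ((show Nat.Prime 5 by norm_num).dvd_factorial).1 ((show 5 ∣ 60 by norm_num).trans h5)
      have hL15 := Nat.le_of_dvd Nat.card_pos hL
      nlinarith
    · exact subgroupOf_eq_top.1 (top_le_iff.1 (e ▸ normalCore_le L))
  have hKi : K.index ∣ 2 := hidx ▸ index_dvd_of_le hle
  rcases (Nat.dvd_prime Nat.prime_two).1 hKi with e | e
  · exact absurd (index_eq_one.1 e ▸ mem_top _) hs
  · exact Equiv.Perm.eq_alternatingGroup_of_index_eq_two e

/-- A group of order divisible by fifteen acting faithfully on one space and trivially on the other. -/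
theorem block_equiv (h : IsBlock P P') (hext : ∀ A : O8, (∀ i, act A (P i) = P i) → (∀ i, act A (P' i) = P' i) → A = 1)
    (K : Subgroup O8) (hK : K ≤ blk P') (h15 : 15 ∣ Nat.card K) :
    Nonempty (K ≃* alternatingGroup (Fin 5)) := by
  have hm : ∀ (A : K) i, ∃ j, act (A : O8) (P i) = P j := fun A i =>
    exists_map h (σ := id) Function.injective_id (hK A.2).2 i
  choose σ hσ using hm
  have hmul : ∀ A B : K, ∀ i, σ (A * B) i = σ A (σ B i) := fun A B i => h.inj _ _ (by
    rw [← hσ, ← hσ, ← hσ, Subgroup.coe_mul, act_mul])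
  have hone : ∀ i, σ 1 i = i := fun i => h.inj _ _ (by rw [← hσ, Subgroup.coe_one, act_one])
  let f : K →* Equiv.Perm (Fin 5) := MonoidHom.mk' (fun A =>
    { toFun := σ A
      invFun := σ A⁻¹
      left_inv := fun i => by rw [← hmul, inv_mul_cancel, hone]
      right_inv := fun i => by rw [← hmul, mul_inv_cancel, hone] }) fun A B => Equiv.ext (hmul A B)
  have hf : Function.Injective f := by
    rw [← MonoidHom.ker_eq_bot_iff, eq_bot_iff]
    intro A hA
    refine mem_bot.2 (Subtype.ext (hext _ (fun i => ?_) (hK A.2).2))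
    rw [hσ]
    exact congrArg P (congrArg (fun p : Equiv.Perm (Fin 5) => p i) (MonoidHom.mem_ker.1 hA))
  refine ⟨(MonoidHom.ofInjective hf).trans (MulEquiv.subgroupCongr (eq_alternating _ ?_ ?_))⟩
  · rw [← Nat.card_congr (MonoidHom.ofInjective hf).toEquiv]; exact h15
  · rintro ⟨A, hA⟩
    have hA' : ∀ i, σ A i = Equiv.swap 0 1 i := fun i => congrArg (fun p : Equiv.Perm (Fin 5) => p i) hA
    have hq : qf (P 0 + P 1) = 1 := h.root 0 1 (by decide)
    have e : rfl' (P 0 + P 1) = (A : O8) := by
      rw [← inv_mul_eq_one]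
      refine hext _ (fun i => ?_) (fun i => ?_)
      · rw [inv_eq_of_mul_eq_one_right (rfl'_sq _), act_mul, hσ, hA', act_rfl' hq, h.swap]
        simp
      · rw [inv_eq_of_mul_eq_one_right (rfl'_sq _), act_mul, (hK A.2).2, act_rfl' hq, R, bf_add_left,
          bf_comm (P 0), bf_comm (P 1), h.orth, h.orth, add_zero, sm_zero, add_zero]
    exact rfl'_notMem hq (e ▸ (hK A.2).1)

theorem extU (A : O8) (h1 : ∀ i, act A (pU i) = pU i) (h2 : ∀ i, act A (pW i) = pW i) : A = 1 :=
  act_ext_blocks (fun i => by rw [h1, act_one]) (fun i => by rw [h2, act_one])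

end Cfsg.Agent.ConwayType.JTwo
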