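import Cfsg.Agent.Lib.ConwayType.JTwo.Local

/-!
The centralizer of the two elements is the Hall–Janko group, and with the element of order five it gives
the centralizer of that element.
-/

set_option autoImplicit false
set_option maxRecDepth 20000

namespace Cfsg.Agent.ConwayType.JTwo

open Subgroup Cfsg.Agent.LargeExtra Cfsg.Agent.OctadInv.Orbits
open Cfsg.Agent.ConwayType.Octad (Gen pf Ok ww_inj)

variable {G : Type*} [Group G] [Finite G] {Q Q' : Subgroup G} {z a : G} {S : St Q Q' z a} {d : Gen S}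

namespace Five

variable (F : Five d)

/-- The hypotheses on the centralizer of `z`, carried along an isomorphism. -/
theorem isoJ2_of {H : Type*} [Group H] [Finite H] (t : H) (e : F.Cy ≃* ↥(centralizer ({t} : Set H)))
    (hQ : Nat.card Q = 512) (ht : orderOf t = 2)
    (hnw : ∃ g : H, (∃ hq : g * t * g⁻¹ ∈ centralizer ({t} : Set H),
      (⟨g * t * g⁻¹, hq⟩ : centralizer ({t} : Set H)) ∈ F.rho.ker.map e.toMonoidHom) ∧ g * t * g⁻¹ ≠ t)
    (hcl : ∃ x y : H, orderOf x = 2 ∧ orderOf y = 2 ∧ ¬ IsConj x y) : Cfsg.Spor.IsoJ2 H := by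
  obtain ⟨eA⟩ := JankoTwo.omega_equiv
  obtain ⟨e5⟩ := (F.blk_le hQ).2
  set f : F.Cy →* alternatingGroup (Fin 5) := e5.toMonoidHom.comp F.rho.rangeRestrict with hf
  have hsurj : Function.Surjective f := e5.surjective.comp F.rho.rangeRestrict_surjective
  have hker : f.ker = F.rho.ker := by
    ext c
    rw [MonoidHom.mem_ker, MonoidHom.mem_ker]
    show e5 (F.rho.rangeRestrict c) = 1 ↔ _
    rw [MulEquiv.map_eq_one_iff, Subtype.ext_iff]
    rfl
  have hX : Cfsg.IsExtraspecial 2 F.rho.ker := isExtraspecial_of_equiv extra_R F.kerEquiv.symm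
  have hC : centralizer (F.rho.ker : Set F.Cy) ≤ F.rho.ker := by
    intro c hc
    have hcomm : ∀ k ∈ perpQ S pW, ((c : F.Y) : G) * k = k * ((c : F.Y) : G) := fun k hk => by
      have := mem_centralizer_iff.1 hc _ (F.kerEquiv.symm ⟨k, hk⟩).2
      exact (congrArg (fun x : F.Cy => ((x : F.Y) : G)) this).symm
    have hblk := F.act_mem_blk (c : F.Y).2 (F.cy_z c)
    refine MonoidHom.mem_ker.2 (extU _ (fun i => ?_) hblk.2)
    obtain ⟨r, hr, hrv⟩ := S.F.surj (pU i)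
    have h := S.vec_conj (F.cy_z c) hr
    rw [hcomm r ⟨hr, fun j => by rw [hrv]; exact blockU.orth i j⟩, mul_inv_cancel_right, hrv] at h
    exact h.symm
  have hF := genFitting_ext F.rho.ker hX.1.1 hC f hsurj hker
  haveI : (F.rho.ker.map e.toMonoidHom).Normal :=
    (inferInstance : F.rho.ker.Normal).map e.toMonoidHom e.surjective
  refine S1720.result t ht (F.rho.ker.map e.toMonoidHom) ?_ ?_ ?_ ?_ hnw hcl
  · rw [← hF, Cfsg.Agent.Components.Fitting.genFitting_map_equiv]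
  · exact isExtraspecial_of_equiv hX (F.rho.ker.equivMapOfInjective _ e.injective)
  · rw [card_map_of_injective e.injective, Nat.card_congr F.kerEquiv.toEquiv, card_R]
    norm_num
  · exact ((QuotientGroup.congr F.rho.ker (F.rho.ker.map e.toMonoidHom) e rfl).symm.trans
      ((QuotientGroup.quotientMulEquivOfEq hker.symm).trans
        (QuotientGroup.quotientKerEquivOfSurjective f hsurj))).trans eA.symm

/-- An involution outside the class of `z`. -/
theorem exists_other (hQ : 32 ≤ Nat.card Q) :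
    ∃ x ∈ F.Y, x * x = 1 ∧ x ≠ 1 ∧ ¬ IsConj z x := by
  obtain ⟨hk0, hw0, q1, q2, q3, -⟩ := basis_x
  obtain ⟨x, hx, hxx, hxk, hxp⟩ := S.exists_typ d.hs hk0 hw0 q1 q2 q3
  have hI : Ind (S.kap d.s x) (S.par x) := by rw [hxk, hxp]; exact ind_x
  refine ⟨x, ?_, hxx, fun e => hI.2.1 (by rw [e]; exact S.par_q Q.one_mem), S.not_conj d.hs hQ hx hxx hI⟩
  obtain ⟨kk, hkk⟩ := d.exists_rep 14
  obtain ⟨kw, hkw⟩ := d.exists_rep 3
  obtain ⟨hck, hkk', hkp⟩ := d.rep_core hkk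
  obtain ⟨hcw, hwk, hwp⟩ := d.rep_core hkw
  have hsw := d.core_s hcw
  set y := kk * (d.s * kw * d.s) with hy
  have hyc : S.Core y := S.core_mul hck hsw
  have hyk : S.kap d.s y = k0 := by
    rw [hy, S.kap_mul d.hs hck hsw.1, d.kap_s, hkk', hwp, add_zero, list_facts.2.2.2.2.2.2.2.2.1]
  have hyp : S.par y = w0 := by
    rw [hy, S.par_core_mul hck hsw.1, d.par_s, hkp, hwk, zero_add, list_facts.2.2.2.2.2.2.2.2.2.1]
  obtain ⟨t, t', e⟩ := S.core_zero d.hs (S.core_mul hyc hx)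
    (by rw [S.kap_mul d.hs hyc hx.1, hyk, hxk, add_self_V]) (by rw [S.par_core_mul hyc hx.1, hyp, hxp, add_self_V])
  have hzp : ∀ {u : G}, u ∈ F.Y → ∀ r, zp u r ∈ F.Y := fun hu r => F.Y.pow_mem hu _
  have hrep : ∀ {i : Fin 64} {k : G}, d.Rep i k → (∀ j, bf (pW j) (ww i) = 0) → k ∈ F.Y := fun hk h =>
    F.R_le ⟨hk.1, fun j => by rw [hk.2]; exact h j⟩
  have h14 := hrep hkk (by rw [list_facts.2.2.2.2.2.2.2.2.1]; exact special_vectors.2.2.2.1)
  have h3 := hrep hkw (by rw [list_facts.2.2.2.2.2.2.2.2.2.1]; exact special_vectors.2.2.2.2)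
  have hyY : y ∈ F.Y := F.Y.mul_mem h14 (F.Y.mul_mem (F.Y.mul_mem F.s_Y h3) F.s_Y)
  rw [eq_inv_mul_iff_mul_eq.2 e]
  exact F.Y.mul_mem (F.Y.inv_mem hyY) (F.Y.mul_mem (hzp F.z_Y t) (hzp (F.R_le a_mem_R) t'))

theorem Y_iso (hQ : Nat.card Q = 512) : Cfsg.Spor.IsoJ2 F.Y := by
  obtain ⟨x, hx, hxx, hx1, hxz⟩ := F.exists_other (by omega)
  have ht : orderOf (⟨z, F.z_Y⟩ : F.Y) = 2 := by rw [← Subgroup.orderOf_coe]; exact S.h.two
  have haz : (⟨a, F.R_le a_mem_R⟩ : F.Y) ∈ centralizer ({⟨z, F.z_Y⟩} : Set F.Y) :=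
    mem_centralizer_singleton_iff.2 (Subtype.ext S.P.p.az)
  refine F.isoJ2_of (⟨z, F.z_Y⟩ : F.Y) (MulEquiv.refl _) hQ ht ⟨⟨d.s, F.s_Y⟩, ?_, fun e => ?_⟩
    ⟨⟨z, F.z_Y⟩, ⟨x, hx⟩, ht, ?_, fun h => hxz ((F.Y.subtype).map_isConj h)⟩
  · have e : (⟨d.s, F.s_Y⟩ : F.Y) * ⟨z, F.z_Y⟩ * (⟨d.s, F.s_Y⟩ : F.Y)⁻¹ = ⟨a, F.R_le a_mem_R⟩ :=
      Subtype.ext d.hs.hz
    refine ⟨e.symm ▸ haz, ⟨⟨_, e.symm ▸ haz⟩, F.rho_ker.2 ?_, rfl⟩⟩
    show ((d.s * z * d.s⁻¹ : G)) ∈ perpQ S pW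
    rw [d.hs.hz]
    exact a_mem_R
  · exact S.P.p.ne (d.hs.hz ▸ congrArg Subtype.val e)
  · rw [← Subgroup.orderOf_coe]
    exact orderOf_eq_prime (by rw [pow_two]; exact hxx) hx1

theorem g5_notin : F.g5 ∉ F.Y := fun h => F.not_comm (F.mem_Y.1 h).2.symm

theorem disjoint_five : Disjoint (zpowers F.g5) F.Y := by
  have : Fact (Nat.card ↥(zpowers F.g5)).Prime := ⟨by rw [Nat.card_zpowers, F.order5]; norm_num⟩
  rw [disjoint_iff]
  rcases (Subgroup.eq_bot_or_eq_top_of_prime_card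
    ((zpowers F.g5 ⊓ F.Y).subgroupOf (zpowers F.g5))) with e | e
  · rwa [subgroupOf_eq_bot, disjoint_iff, inf_eq_left.2 inf_le_left] at e
  · exact absurd ((subgroupOf_eq_top.1 e) (mem_zpowers F.g5)).2 F.g5_notin

/-- An element of `C(z)` commuting with the element of order five. -/
theorem split_z (hQ : Nat.card Q = 512) {c : G} (hcz : c * z = z * c) (h5 : F.g5 * c = c * F.g5) :
    ∃ n ∈ zpowers F.g5, ∃ y ∈ F.Y, y * z = z * y ∧ c = n * y := by
  obtain ⟨hc, hU, hW⟩ := F.maps hcz h5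
  obtain ⟨k, hk⟩ := shift_of_comm blockW hc hW
  have hnz : F.g5 ^ k.1 * z = z * F.g5 ^ k.1 := ((show Commute F.g5 z from F.g5z).pow_left _).eq
  have hn : S.act' (F.g5 ^ k.1) = five pW ^ k.1 := by
    induction k.1 with
    | zero => rw [pow_zero, pow_zero, act'_one]
    | succ m ih => rw [pow_succ, pow_succ, S.act'_mul ((show Commute F.g5 z from F.g5z).pow_left _).eq F.g5z, ih, F.act5]
  have hyz := mul_z (inv_z hnz) hcz
  have hy5 : F.g5 * ((F.g5 ^ k.1)⁻¹ * c) = (F.g5 ^ k.1)⁻¹ * c * F.g5 :=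
    (((Commute.refl F.g5).pow_right k.1).inv_right.mul_right h5).eq
  refine ⟨F.g5 ^ k.1, pow_mem (mem_zpowers _) _, (F.g5 ^ k.1)⁻¹ * c, F.mem_Y_of_blk hQ hyz hy5 ?_, hyz,
    (mul_inv_cancel_left _ _).symm⟩
  obtain ⟨hc', -, hW'⟩ := F.maps hyz hy5
  have h0 : act (S.act' ((F.g5 ^ k.1)⁻¹ * c)) (pW 0) = pW 0 := by
    have hp : act (five pW ^ k.1) (pW 0) = pW (0 + k) := by
      have hs : ∀ i, act (five pW) (pW i) = pW (i + 1) := fun i => by rw [act_five blockW, (blockW.five i).1]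
      rw [act_pow]
      fin_cases k <;> simp [Function.iterate_succ_apply', hs] <;> decide +kernel
    rw [S.act'_mul (inv_z hnz) hcz, S.act'_inv hnz, act_mul, hk, hn, ← hp, act_inv_self]
  obtain ⟨k', hk'⟩ := shift_of_comm blockW hc' hW'
  have hk0 : k' = 0 := by
    have := blockW.inj _ _ ((hk' 0).symm.trans h0)
    rwa [zero_add] at this
  exact ⟨S.act'_omega _, fun i => by rw [hk', hk0, add_zero]⟩

/-- The centralizer of the element of order five. -/
theorem centralizer_five (hQ : Nat.card Q = 512) :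
    centralizer (zpowers F.g5 : Set G) = zpowers F.g5 ⊔ F.Y := by
  haveI : Fact (Nat.Prime 5) := ⟨by norm_num⟩
  set B := zpowers F.g5
  set C := centralizer (B : Set G)
  have hBC : B ≤ C := by
    intro x hx
    obtain ⟨i, rfl⟩ := mem_zpowers_iff.1 hx
    refine mem_centralizer_iff.2 fun y hy => ?_
    obtain ⟨j, rfl⟩ := mem_zpowers_iff.1 hy
    exact ((Commute.refl F.g5).zpow_zpow j i).eq
  have memC : ∀ {x : G}, F.g5 * x = x * F.g5 → x ∈ C := fun {x} h => mem_centralizer_iff.2 fun y hy => by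
    obtain ⟨j, rfl⟩ := mem_zpowers_iff.1 hy
    exact ((show Commute F.g5 x from h).zpow_left j).eq
  have hYC : F.Y ≤ C := fun x hx => memC (F.mem_Y.1 hx).1
  have hsup : B ⊔ F.Y ≤ C := sup_le hBC hYC
  haveI hN : (B.subgroupOf C).Normal := ⟨fun n hn g => by
    have h := mem_centralizer_iff.1 g.2 _ (mem_subgroupOf.1 hn)
    rw [show g * n * g⁻¹ = n from Subtype.ext (by
      rw [Subgroup.coe_mul, Subgroup.coe_mul, ← h, InvMemClass.coe_inv, mul_inv_cancel_right])]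
    exact hn⟩
  set N := B.subgroupOf C
  let π := QuotientGroup.mk' N
  have hone : ∀ {x : G}, x ∈ B → x * x = 1 → x = 1 := fun {x} hx hxx => by
    by_contra hne
    have h2 : orderOf x = 2 := orderOf_eq_prime (by rw [pow_two, hxx]) hne
    have h5 := Subgroup.orderOf_dvd_natCard B hx
    rw [Nat.card_zpowers, F.order5, h2] at h5
    norm_num at h5
  set zb : C ⧸ N := π ⟨z, hYC F.z_Y⟩
  have hcomm : ∀ (g : C) {t : G} (ht : t ∈ C), π g * zb = π ⟨t, ht⟩ * π g → t * t = 1 →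
      (∀ n ∈ B, t * n = n * t) → (g : G) * z = t * (g : G) := by
    intro g t ht e htt htn
    rw [← map_mul, ← map_mul, QuotientGroup.mk'_apply, QuotientGroup.mk'_apply, QuotientGroup.eq,
      mem_subgroupOf] at e
    set n := ((g : G) * z)⁻¹ * (t * (g : G)) with hn
    have hn' : n ∈ B := e
    have hc : (g : G) * n = n * (g : G) := (mem_centralizer_iff.1 g.2 n hn').symm
    have e1 : (g : G) * z * (g : G)⁻¹ = t * n⁻¹ := by
      have : t = (g : G) * z * (n * (g : G)⁻¹) := by rw [hn]; group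
      rw [this, show n * (g : G)⁻¹ = (g : G)⁻¹ * n from (show Commute (g : G) n from hc).inv_left.eq.symm]
      group
    have hsq : t * n⁻¹ * (t * n⁻¹) = 1 := by
      rw [← e1, conj_mul, S.h.zz, mul_one, mul_inv_cancel]
    have hnn : n⁻¹ * n⁻¹ = 1 := by
      rw [show t * n⁻¹ * (t * n⁻¹) = t * (n⁻¹ * t) * n⁻¹ by group, ← htn _ (B.inv_mem hn'),
        ← mul_assoc, htt, one_mul] at hsq
      exact hsq
    rw [hone (B.inv_mem hn') hnn, mul_one] at e1
    exact mul_inv_eq_iff_eq_mul.1 e1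
  have hzB : ∀ n ∈ B, z * n = n * z := fun n hn => (mem_centralizer_iff.1 (hYC F.z_Y) n hn).symm
  let φ0 : F.Cy →* C ⧸ N := π.comp ((Subgroup.inclusion hYC).comp F.Cy.subtype)
  have hφ : ∀ c, φ0 c ∈ centralizer ({zb} : Set (C ⧸ N)) := fun c => mem_centralizer_singleton_iff.2 (by
    show π _ * zb = zb * π _
    rw [← map_mul, ← map_mul]
    exact congrArg π (Subtype.ext (F.cy_z c)))
  let φ := φ0.codRestrict _ hφ
  have hinj : Function.Injective φ := by
    rw [← MonoidHom.ker_eq_bot_iff, eq_bot_iff]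
    intro c hc
    have h1 : π (Subgroup.inclusion hYC (c : F.Y)) = 1 := congrArg Subtype.val (MonoidHom.mem_ker.1 hc)
    rw [← MonoidHom.mem_ker, QuotientGroup.ker_mk', mem_subgroupOf] at h1
    exact mem_bot.2 (Subtype.ext (Subtype.ext (Subgroup.disjoint_def.1 F.disjoint_five h1 (c : F.Y).2)))
  have hsurj : Function.Surjective φ := by
    rintro ⟨q, hq⟩
    obtain ⟨g, rfl⟩ := QuotientGroup.mk'_surjective N q
    have hgz := hcomm g (hYC F.z_Y) (mem_centralizer_singleton_iff.1 hq) S.h.zz hzB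
    obtain ⟨n, hn, y, hy, hyz, e⟩ := F.split_z hQ hgz (mem_centralizer_iff.1 g.2 _ (mem_zpowers _))
    refine ⟨⟨⟨y, hy⟩, mem_centralizer_singleton_iff.2 (Subtype.ext hyz)⟩, Subtype.ext ?_⟩
    show π ⟨y, hYC hy⟩ = π g
    rw [QuotientGroup.mk'_apply, QuotientGroup.mk'_apply, QuotientGroup.eq, mem_subgroupOf]
    show y⁻¹ * (g : G) ∈ B
    rw [e, ← mul_assoc, show y⁻¹ * n = n * y⁻¹ from ((show Commute n y from
      mem_centralizer_iff.1 (hYC hy) n hn).inv_right).eq.symm, inv_mul_cancel_right]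
    exact hn
  let e := MulEquiv.ofBijective φ ⟨hinj, hsurj⟩
  have hord : ∀ {x : G} (hx : x ∈ F.Y), x * x = 1 → x ≠ 1 → orderOf (π ⟨x, hYC hx⟩) = 2 := fun {x} hx hxx hne =>
    orderOf_eq_prime (by rw [← map_pow, show (⟨x, hYC hx⟩ : C) ^ 2 = 1 from Subtype.ext (by simpa [pow_two] using hxx),
      map_one]) fun h1 => hne (by
        rw [← MonoidHom.mem_ker, QuotientGroup.ker_mk', mem_subgroupOf] at h1
        exact Subgroup.disjoint_def.1 F.disjoint_five h1 hx)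
  obtain ⟨x, hx, hxx, hx1, hxz⟩ := F.exists_other (by omega)
  have haC : a ∈ C := hYC (F.R_le a_mem_R)
  have hsz : π ⟨d.s, hYC F.s_Y⟩ * zb * (π ⟨d.s, hYC F.s_Y⟩)⁻¹ = π ⟨a, haC⟩ := by
    rw [← map_mul, ← map_inv, ← map_mul]
    exact congrArg π (Subtype.ext d.hs.hz)
  have haz : (⟨a, F.R_le a_mem_R⟩ : F.Y) ∈ F.Cy := mem_centralizer_singleton_iff.2 (Subtype.ext S.P.p.az)
  have hJ : Cfsg.Spor.IsoJ2 (C ⧸ N) := by
    refine F.isoJ2_of zb e hQ (hord F.z_Y S.h.zz S.h.ne_one)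
      ⟨π ⟨d.s, hYC F.s_Y⟩, ⟨hsz ▸ hφ ⟨_, haz⟩, ⟨⟨_, haz⟩, F.rho_ker.2 a_mem_R, Subtype.ext hsz.symm⟩⟩, ?_⟩
      ⟨zb, π ⟨x, hYC hx⟩, hord F.z_Y S.h.zz S.h.ne_one, hord hx hxx hx1, fun h => hxz ?_⟩
    · rw [hsz]
      intro h1
      have h := hcomm 1 haC (by rw [map_one, one_mul, mul_one]; exact h1.symm)
        (by rw [← d.hs.hz, conj_mul, S.h.zz, mul_one, mul_inv_cancel])
        (fun n hn => (mem_centralizer_iff.1 haC n hn).symm)
      rw [OneMemClass.coe_one, one_mul, mul_one] at h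
      exact S.P.p.ne h.symm
    · obtain ⟨gq, hgq⟩ := isConj_iff.1 h
      obtain ⟨g, rfl⟩ := QuotientGroup.mk'_surjective N gq
      exact isConj_iff.2 ⟨g, mul_inv_eq_iff_eq_mul.2 (hcomm g (hYC hx) (mul_inv_eq_iff_eq_mul.1 hgq) hxx
        fun n hn => (mem_centralizer_iff.1 (hYC hx) n hn).symm)⟩
  obtain ⟨e1⟩ := hJ
  obtain ⟨e2⟩ := F.Y_iso hQ
  have hcard : Nat.card C = Nat.card F.Y * 5 := by
    rw [card_eq_card_quotient_mul_card_subgroup N, Nat.card_congr (subgroupOfEquivOfLe hBC).toEquiv,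
      Nat.card_zpowers, F.order5, Nat.card_congr e1.toEquiv, ← Nat.card_congr e2.toEquiv]
  have hnorm : F.Y ≤ normalizer (B : Set G) := (hYC).trans (centralizer_le_normalizer _)
  refine (eq_of_le_of_card_ge hsup ?_).symm
  rw [Cfsg.Agent.Coprime.card_sup_of_disjoint hnorm F.disjoint_five, Nat.card_zpowers, F.order5, hcard]
  exact le_of_eq (mul_comm _ _)

/-! ### The centralizer of the Hall–Janko group -/

theorem five_mem : F.g5 ∈ centralizer (F.Y : Set G) ∧ F.g3 ∈ centralizer (F.Y : Set G) :=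
  ⟨mem_centralizer_iff.2 fun _ hy => (F.mem_Y.1 hy).1.symm,
    mem_centralizer_iff.2 fun _ hy => (F.mem_Y.1 hy).2.symm⟩

theorem M_iso : Nonempty (↥(centralizer (F.Y : Set G)) ≃* alternatingGroup (Fin 5)) := by
  set M := centralizer (F.Y : Set G)
  have hMz : ∀ m : M, (m : G) * z = z * (m : G) := fun m => (mem_centralizer_iff.1 m.2 z F.z_Y).symm
  have hfix : ∀ (m : G), m ∈ M → ∀ i, act (S.act' m) (pU i) = pU i := fun m hm i => by
    obtain ⟨r, hr, hrv⟩ := S.F.surj (pU i)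
    have hrR : r ∈ perpQ S pW := ⟨hr, fun j => by rw [hrv]; exact blockU.orth i j⟩
    have h := S.vec_conj (hMz ⟨m, hm⟩) hr
    rw [← mem_centralizer_iff.1 hm r (F.R_le hrR), mul_inv_cancel_right, hrv] at h
    exact h.symm
  let ρ : M →* O8 := MonoidHom.mk' (fun m => S.act' (m : G)) fun m m' => by
    rw [Subgroup.coe_mul]; exact S.act'_mul (hMz m) (hMz m')
  have hinj : Function.Injective ρ := by
    rw [← MonoidHom.ker_eq_bot_iff, eq_bot_iff]
    intro m hm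
    have hQm : (m : G) ∈ Q := (S.act'_one_iff (hMz m)).1 (MonoidHom.mem_ker.1 hm)
    have hperp : ∀ i, bf (pU i) (S.F.vec (m : G)) = 0 := fun i => by
      obtain ⟨r, hr, hrv⟩ := S.F.surj (pU i)
      have h := (S.comm_iff hr hQm).1
        (mem_centralizer_iff.1 m.2 r (F.R_le ⟨hr, fun j => by rw [hrv]; exact blockU.orth i j⟩))
      rwa [hrv] at h
    have hy : y1 (S.F.vec (m : G)) = 0 := by
      rw [← bf_e1, bf_comm]; exact hperp 0
    have hs : d.s * (m : G) * d.s⁻¹ = (m : G) := mul_inv_eq_iff_eq_mul.2 (mem_centralizer_iff.1 m.2 _ F.s_Y)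
    obtain ⟨t, t', e⟩ := S.inf_four hQm (hs ▸ (d.hs.conj _ hQm hy).1)
    have ht' : t' = 0 := by
      have h := hperp 1
      rw [e, S.F.vec_mul (S.zp_mem t) (S.zpa_mem t'), S.vec_zp, S.vec_zpa, zero_add, bf_sm_right,
        show pU 1 = f1 from rfl, bf_f1_e1, mul_one] at h
      exact h
    rw [ht', zp_zero, mul_one] at e
    refine mem_bot.2 (Subtype.ext ?_)
    rw [e] at hs ⊢
    rcases z2 t with rfl | rfl
    · exact zp_zero z
    · rw [zp_one, d.hs.hz] at hs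
      exact absurd hs S.P.p.ne
  have hle : ρ.range ≤ blk pU := by
    rintro _ ⟨m, rfl⟩
    exact ⟨S.act'_omega _, hfix m m.2⟩
  have h5 : orderOf (⟨F.g5, F.five_mem.1⟩ : M) = 5 := by rw [← Subgroup.orderOf_coe]; exact F.order5
  have h3 : orderOf (⟨F.g3, F.five_mem.2⟩ : M) = 3 := by rw [← Subgroup.orderOf_coe]; exact F.order3
  have d5 : 5 ∣ Nat.card M := h5 ▸ orderOf_dvd_natCard _
  have d3 : 3 ∣ Nat.card M := h3 ▸ orderOf_dvd_natCard _
  obtain ⟨e⟩ := block_equiv blockW (fun A h1 h2 => extU A h2 h1) ρ.range hle (by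
    rw [← Nat.card_congr (MonoidHom.ofInjective hinj).toEquiv]
    exact Nat.Coprime.mul_dvd_of_dvd_of_dvd (by norm_num) d3 d5)
  exact ⟨(MonoidHom.ofInjective hinj).trans e⟩

end Five

end Cfsg.Agent.ConwayType.JTwo
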