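import Cfsg.Agent.Lib.ConwayType.JTwo.Blocks
import Cfsg.Agent.Lib.ConwayType.NotZ
import Cfsg.Agent.Lib.JankoTwo.Setup
import Cfsg.Agent.S1720
import Cfsg.Agent.S1620

/-!
The centralizer of an element of order five acting on one of two orthogonal spaces of minus type.
-/

set_option autoImplicit false
set_option maxRecDepth 20000

namespace Cfsg.Agent.ConwayType.JTwo

open Subgroup Cfsg.Agent.LargeExtra Cfsg.Agent.OctadInv.Orbits
open Cfsg.Agent.ConwayType.Octad (Gen pf Ok ww_inj)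

/-- The reflecting pairs for the five-cycle. -/
def l5 : List (Fin 64 × Fin 64) := [(48, 23), (12, 7)]

/-- The reflecting pairs for the three-cycle. -/
def l3 : List (Fin 64 × Fin 64) := [(48, 23)]

set_option synthInstance.maxSize 4000 in
set_option synthInstance.maxHeartbeats 400000 in
theorem list_facts : Ok l5 ∧ Ok l3 ∧ (∀ i, Fv pW (ww i) = ww (pf l5 i)) ∧ (∀ i, Tv pW (ww i) = ww (pf l3 i)) ∧
    Fv pW e1 = e1 ∧ Fv pW f1 = f1 ∧ Tv pW e1 = e1 ∧ Tv pW f1 = f1 ∧ ww 14 = k0 ∧ ww 3 = w0 ∧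
    (∀ i, (pf l5)^[5] i = i) ∧ ∀ i, (pf l3)^[3] i = i := by decide +kernel

theorem special_vectors : (∀ j, bf (pW j) 0 = 0) ∧ (∀ j, bf (pW j) e1 = 0) ∧ (∀ j, bf (pW j) f1 = 0) ∧
    (∀ j, bf (pW j) k0 = 0) ∧ ∀ j, bf (pW j) w0 = 0 := by decide +kernel

/-- The generalized Fitting subgroup of an extension of a `2`-group by the alternating group of degree five. -/
theorem genFitting_ext {H : Type*} [Group H] [Finite H] (R : Subgroup H) [R.Normal] (hR : IsPGroup 2 R)
    (hC : centralizer (R : Set H) ≤ R) (f : H →* alternatingGroup (Fin 5)) (hf : Function.Surjective f)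
    (hker : f.ker = R) : Cfsg.generalizedFittingSubgroup H = R := by
  haveI : Fact (Nat.Prime 2) := ⟨Nat.prime_two⟩
  haveI hnil : Group.IsNilpotent R := hR.isNilpotent
  have hlayer : Cfsg.layer H = ⊥ := by
    rw [Cfsg.Agent.Components.Basic.layer_eq_bot_iff]
    intro L hL
    have hs : Group.IsSolvable R := inferInstance
    have h0 := Cfsg.Agent.Components.Basic.component_commutator_eq_bot_of_isSolvable hL
      (inferInstance : R.Normal).isSubnormal hs
    exact Cfsg.Agent.Components.Basic.component_not_le_of_isSolvable hL hs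
      ((commutator_eq_bot_iff_le_centralizer.1 h0).trans hC)
  refine le_antisymm ?_ ((Cfsg.Agent.Components.Fitting.le_fitting hnil).trans le_sup_right)
  rw [Cfsg.generalizedFittingSubgroup, hlayer, bot_sup_eq, ← hker, ← Subgroup.map_eq_bot_iff]
  set F := Cfsg.fittingSubgroup H
  haveI hsimple : IsSimpleGroup (alternatingGroup (Fin 5)) := alternatingGroup.isSimpleGroup_five
  haveI : (F.map f).Normal := (inferInstance : F.Normal).map f hf
  rcases IsSimpleGroup.eq_bot_or_eq_top_of_normal (F.map f) inferInstance with e | e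
  · exact e
  exfalso
  haveI : Group.IsNilpotent F := Cfsg.Agent.Components.Fitting.fitting_isNilpotent
  haveI : Group.IsNilpotent (alternatingGroup (Fin 5)) :=
    Group.nilpotent_of_surjective (f.comp F.subtype) fun y => by
      obtain ⟨x, hx, hxy⟩ := (e ▸ mem_top y : y ∈ F.map f)
      exact ⟨⟨x, hx⟩, hxy⟩
  have hcomm := (IsSimpleGroup.comm_iff_isSolvable (G := alternatingGroup (Fin 5))).2 inferInstance
  have h1 : (Equiv.swap 0 1 * Equiv.swap 1 2 : Equiv.Perm (Fin 5)) ∈ alternatingGroup (Fin 5) :=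
    Equiv.Perm.mem_alternatingGroup.2 (by decide)
  have h2 : (Equiv.swap 0 1 * Equiv.swap 2 3 : Equiv.Perm (Fin 5)) ∈ alternatingGroup (Fin 5) :=
    Equiv.Perm.mem_alternatingGroup.2 (by decide)
  have hne : (Equiv.swap 0 1 * Equiv.swap 1 2 * (Equiv.swap 0 1 * Equiv.swap 2 3) : Equiv.Perm (Fin 5)) ≠
      Equiv.swap 0 1 * Equiv.swap 2 3 * (Equiv.swap 0 1 * Equiv.swap 1 2) := by decide +kernel
  exact hne (congrArg Subtype.val (hcomm ⟨_, h1⟩ ⟨_, h2⟩))

/-- Iterated conjugation. -/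
theorem fix_of_odd {G : Type*} [Group G] {z g x : G} {t : ZMod 2} (hz : z * z = 1) (hz1 : z ≠ 1)
    (hgz : g * z = z * g) (h : g * x * g⁻¹ = zp z t * x) {n : ℕ} (hn : g ^ n = 1) (hodd : Odd n) : t = 0 := by
  have key : ∀ m : ℕ, g ^ m * x * (g ^ m)⁻¹ = zp z (m * t) * x := by
    intro m
    induction m with
    | zero => simp [zp_zero]
    | succ m ih =>
      calc g ^ (m + 1) * x * (g ^ (m + 1))⁻¹ = g * (g ^ m * x * (g ^ m)⁻¹) * g⁻¹ := by rw [pow_succ']; group
        _ = g * zp z (m * t) * g⁻¹ * (g * x * g⁻¹) := by rw [ih]; group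
        _ = zp z (m * t) * (zp z t * x) := by rw [zp_comm hgz, mul_inv_cancel_right, h]
        _ = _ := by rw [← mul_assoc, ← zp_add hz]; push_cast; ring_nf
  have h1 := key n
  rw [hn, inv_one, one_mul, mul_one, eq_comm, mul_eq_right] at h1
  have h2 := (zp_eq_one_iff hz1).1 h1
  obtain ⟨m, rfl⟩ := hodd
  push_cast at h2
  rwa [show (2 : ZMod 2) = 0 from rfl, zero_mul, zero_add, one_mul] at h2

variable {G : Type*} [Group G] [Finite G] {Q Q' : Subgroup G} {z a : G} {S : St Q Q' z a}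

/-- The elements over the two cycles of the second space. -/
structure Five (d : Gen S) where
  g5 : G
  g3 : G
  h5 : d.Hb (pf l5) g5
  h3 : d.Hb (pf l3) g3

theorem exists_five (d : Gen S) : Nonempty (Five d) := by
  obtain ⟨g, hg⟩ := d.exists_hb _ list_facts.1
  obtain ⟨h, hh⟩ := d.exists_hb _ list_facts.2.1
  exact ⟨⟨g, h, hg, hh⟩⟩

variable {d : Gen S}

/-- The induced isometry of an element of the complement. -/
theorem hb_act {f : Fin 64 → Fin 64} {g : G} (hg : d.Hb f g) {A : O8} (hA : ∀ i, act A (ww i) = ww (f i))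
    (h1 : act A e1 = e1) (h2 : act A f1 = f1) : S.act' g = A := by
  have hw : ∀ i, act (S.act' g) (ww i) = ww (f i) := fun i => by
    obtain ⟨k, hk⟩ := d.exists_rep i
    have h := (d.rep_conj hg hk).2
    rw [S.vec_conj hg.1.1.1 hk.1, hk.2] at h
    exact h
  refine ext_act fun v => ?_
  rw [decomp3 v, ← ww_enc (pw_mem v)]
  simp only [act_add, act_sm, hw, hA, h1, h2, S.act_e1 hg.1.1, (d.lm_par hg.1).2]

/-- An element of odd order fixing a vector centralises its preimages. -/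
theorem comm_of_fix {g k : G} (hk : k ∈ Q) (hg : g * z = z * g) {n : ℕ} (hn : g ^ n = 1) (hodd : Odd n)
    (hv : act (S.act' g) (S.F.vec k) = S.F.vec k) : g * k = k * g := by
  have hm : g * k * g⁻¹ * k⁻¹ ∈ Q := Q.mul_mem (S.h.conj_mem hg hk) (Q.inv_mem hk)
  have h0 : S.F.vec (g * k * g⁻¹ * k⁻¹) = 0 := by
    rw [S.F.vec_mul (S.h.conj_mem hg hk) (Q.inv_mem hk), S.vec_inv hk, S.vec_conj hg hk, hv, add_self_V]
  obtain ⟨t, ht⟩ : ∃ t, g * k * g⁻¹ * k⁻¹ = zp z t := by
    rcases S.F.vec_cases hm h0 with e | e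
    · exact ⟨0, by rw [e, zp_zero]⟩
    · exact ⟨1, by rw [e, zp_one]⟩
  have h' : g * k * g⁻¹ = zp z t * k := mul_inv_eq_iff_eq_mul.1 ht
  rw [fix_of_odd S.h.zz S.h.ne_one hg h' hn hodd, zp_zero, one_mul] at h'
  exact mul_inv_eq_iff_eq_mul.1 h'

/-- Elements of `Q` over the orthogonal space of a block. -/
def perpQ (S : St Q Q' z a) (P : Fin 5 → V) : Subgroup G where
  carrier := {k | k ∈ Q ∧ ∀ j, bf (P j) (S.F.vec k) = 0}
  one_mem' := ⟨Q.one_mem, fun j => by rw [S.F.vec_one, bf_zero_right]⟩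
  mul_mem' := fun {x y} hx hy => ⟨Q.mul_mem hx.1 hy.1, fun j => by
    rw [S.F.vec_mul hx.1 hy.1, bf_add_right, hx.2, hy.2, add_zero]⟩
  inv_mem' := fun {x} hx => ⟨Q.inv_mem hx.1, fun j => by rw [S.vec_inv hx.1, hx.2]⟩

namespace Five

variable (F : Five d)

theorem act5 : S.act' F.g5 = five pW :=
  hb_act F.h5 (fun i => by rw [act_five blockW, list_facts.2.2.1])
    (by rw [act_five blockW]; exact list_facts.2.2.2.2.1) (by rw [act_five blockW]; exact list_facts.2.2.2.2.2.1)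

theorem act3 : S.act' F.g3 = three pW :=
  hb_act F.h3 (fun i => by rw [act_three blockW, list_facts.2.2.2.1])
    (by rw [act_three blockW]; exact list_facts.2.2.2.2.2.2.1)
    (by rw [act_three blockW]; exact list_facts.2.2.2.2.2.2.2.1)

theorem g5z : F.g5 * z = z * F.g5 := F.h5.1.1.1

theorem g3z : F.g3 * z = z * F.g3 := F.h3.1.1.1

theorem pow5 : F.g5 ^ 5 = 1 := by
  have hp : ∀ n : ℕ, d.Hb ((pf l5)^[n]) (F.g5 ^ n) := by
    intro n
    induction n with
    | zero => rw [pow_zero]; exact d.hb_one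
    | succ n ih => rw [pow_succ', Function.iterate_succ']; exact d.hb_mul F.h5 ih
  exact d.hb_ext (hp 5) d.hb_one list_facts.2.2.2.2.2.2.2.2.2.2.1

theorem pow3 : F.g3 ^ 3 = 1 := by
  have hp : ∀ n : ℕ, d.Hb ((pf l3)^[n]) (F.g3 ^ n) := by
    intro n
    induction n with
    | zero => rw [pow_zero]; exact d.hb_one
    | succ n ih => rw [pow_succ', Function.iterate_succ']; exact d.hb_mul F.h3 ih
  exact d.hb_ext (hp 3) d.hb_one list_facts.2.2.2.2.2.2.2.2.2.2.2

theorem act'_one : S.act' 1 = 1 := S.act'_q Q.one_mem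

theorem order5 : orderOf F.g5 = 5 := by
  have : Fact (Nat.Prime 5) := ⟨by norm_num⟩
  exact orderOf_eq_prime F.pow5 fun e => five_ne blockW (by rw [← F.act5, e, act'_one])

theorem order3 : orderOf F.g3 = 3 := by
  have : Fact (Nat.Prime 3) := ⟨by norm_num⟩
  exact orderOf_eq_prime F.pow3 fun e => three_ne blockW (by rw [← F.act3, e, act'_one])

theorem not_comm : F.g5 * F.g3 ≠ F.g3 * F.g5 := fun e => five_three blockW (by
  rw [← F.act5, ← F.act3, ← S.act'_mul F.g5z F.g3z, ← S.act'_mul F.g3z F.g5z, e])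

/-- The centralizer of the two elements. -/
def Y : Subgroup G := centralizer {F.g5, F.g3}

theorem mem_Y {x : G} : x ∈ F.Y ↔ F.g5 * x = x * F.g5 ∧ F.g3 * x = x * F.g3 := by
  rw [Y, mem_centralizer_iff]
  simp

theorem mem_R_of_comm {k : G} (hk : k ∈ Q) (h : F.g5 * k = k * F.g5) : k ∈ perpQ S pW := by
  refine ⟨hk, blockW.five_fix _ ?_⟩
  rw [← act_five blockW, ← F.act5, ← S.vec_conj F.g5z hk, mul_inv_eq_iff_eq_mul.2 h]

theorem R_le {k : G} (hk : k ∈ perpQ S pW) : k ∈ F.Y := by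
  obtain ⟨c, hc⟩ := blockU.span _ hk.2
  refine F.mem_Y.2 ⟨comm_of_fix (S := S) hk.1 F.g5z F.pow5 (by decide) ?_, comm_of_fix (S := S) hk.1 F.g3z F.pow3 (by decide) ?_⟩
  · rw [F.act5, ← hc, act_comb fun i => (five_blk blockW).2 i]
  · rw [F.act3, ← hc, act_comb fun i => (three_blk blockW).2 i]

theorem z_Y : z ∈ F.Y := F.mem_Y.2 ⟨F.g5z, F.g3z⟩

theorem a_mem_R : a ∈ perpQ S pW := ⟨S.mem_a, fun j => by rw [S.F.vec_a]; exact special_vectors.2.1 j⟩

theorem s_Y : d.s ∈ F.Y :=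
  F.mem_Y.2 ⟨(d.lm_comm_s F.h5.1).symm, (d.lm_comm_s F.h3.1).symm⟩

theorem card_R : Nat.card (perpQ S pW) = 32 := by
  classical
  choose r hr hrv using fun v => S.F.surj v
  have hmem : ∀ p : ZMod 2 × Fin 16, zp z p.1 * r (comb pU p.2) ∈ perpQ S pW := fun p =>
    ⟨Q.mul_mem (S.zp_mem _) (hr _), fun j => by
      rw [S.F.vec_mul (S.zp_mem _) (hr _), S.vec_zp, hrv, zero_add, comb_perp blockU]⟩
  rw [← Nat.card_congr (Equiv.ofBijective (fun p : ZMod 2 × Fin 16 => (⟨_, hmem p⟩ : perpQ S pW)) ⟨?_, ?_⟩)]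
  · simp
  · rintro ⟨t, b⟩ ⟨t', b'⟩ e
    have e' : zp z t * r (comb pU b) = zp z t' * r (comb pU b') := congrArg Subtype.val e
    have hb : b = b' := blockU.comb_inj _ _ (by
      have := congrArg S.F.vec e'
      rwa [S.F.vec_mul (S.zp_mem _) (hr _), S.F.vec_mul (S.zp_mem _) (hr _), S.vec_zp, S.vec_zp, hrv, hrv,
        zero_add, zero_add] at this)
    subst hb
    have h1 : zp z t = zp z t' := mul_right_cancel e'
    have ht : t = t' := by
      rcases z2 t with rfl | rfl <;> rcases z2 t' with rfl | rfl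
      · rfl
      · rw [zp_zero, zp_one] at h1; exact absurd h1.symm S.h.ne_one
      · rw [zp_zero, zp_one] at h1; exact absurd h1 S.h.ne_one
      · rfl
    rw [ht]
  · rintro ⟨k, hk⟩
    obtain ⟨b, hb⟩ := blockU.span _ hk.2
    have h1 := Q.mul_mem hk.1 (Q.inv_mem (hr (comb pU b)))
    have h0 : S.F.vec (k * (r (comb pU b))⁻¹) = 0 := by
      rw [S.F.vec_mul hk.1 (Q.inv_mem (hr _)), S.vec_inv (hr _), hrv, hb, add_self_V]
    rcases S.F.vec_cases h1 h0 with e | e
    · exact ⟨(0, b), Subtype.ext (by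
        show zp z 0 * r (comb pU b) = k
        rw [zp_zero, one_mul]
        exact (mul_inv_eq_one.1 e).symm)⟩
    · exact ⟨(1, b), Subtype.ext (by
        show zp z 1 * r (comb pU b) = k
        rw [zp_one]
        exact (mul_inv_eq_iff_eq_mul.1 e).symm)⟩

theorem extra_R : Cfsg.IsExtraspecial 2 ↥(perpQ S pW) := by
  refine isExtraspecial_of_center_le S.h (fun k hk => hk.1) (fun x hx hc => ?_)
    ⟨a, a_mem_R, fun e => ?_, fun e => S.P.p.ne e⟩
  · refine S.F.vec_cases hx.1 (perp_blocks _ (fun i => ?_) hx.2)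
    obtain ⟨r, hr, hrv⟩ := S.F.surj (pU i)
    have h := (S.comm_iff hr hx.1).1 (hc r ⟨hr, fun j => by rw [hrv]; exact blockU.orth i j⟩)
    rwa [hrv] at h
  · exact absurd (S.F.vec_a.symm.trans ((congrArg S.F.vec e).trans S.F.vec_one)) (by decide +kernel)

/-! ### Lifts -/

variable (hQ : Nat.card Q = 512)
include hQ

/-- A lift centralising the element of order five. -/
theorem exists_lift {A : O8} (hA : A ∈ blk pW) :
    ∃ x : G, x * z = z * x ∧ F.g5 * x = x * F.g5 ∧ S.act' x = A := by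
  haveI : Fact (Nat.Prime 5) := ⟨by norm_num⟩
  obtain ⟨⟨c, hc⟩, hcA⟩ := S.F.lift A hA.1
  have hcz := mem_centralizer_singleton_iff.1 hc
  have hcA' : S.act' c = A := by rw [S.act'_def hcz, hcA]
  let H : Subgroup G :=
    { carrier := {g | g * z = z * g ∧ S.act' g * A = A * S.act' g}
      one_mem' := ⟨by rw [one_mul, mul_one], by rw [S.act'_q Q.one_mem, one_mul, mul_one]⟩
      mul_mem' := fun {x y} hx hy => ⟨mul_z hx.1 hy.1, by
        rw [S.act'_mul hx.1 hy.1]; exact Commute.mul_left (show Commute (S.act' x) A from hx.2) hy.2⟩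
      inv_mem' := fun {x} hx => ⟨inv_z hx.1, by
        rw [S.act'_inv hx.1]; exact Commute.inv_left (show Commute (S.act' x) A from hx.2)⟩ }
  have hH : zpowers F.g5 ≤ H := zpowers_le.2 ⟨F.g5z, by
    rw [F.act5]; exact (comm_blocks hA (five_blk blockW)).symm⟩
  let X := {x : G // x * z = z * x ∧ S.act' x = A}
  letI : MulAction (zpowers F.g5) X :=
    { smul := fun p x => ⟨p * x.1 * (p : G)⁻¹, mul_z (mul_z (hH p.2).1 x.2.1) (inv_z (hH p.2).1), by
        rw [S.act'_mul (mul_z (hH p.2).1 x.2.1) (inv_z (hH p.2).1), S.act'_mul (hH p.2).1 x.2.1,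
          S.act'_inv (hH p.2).1, x.2.2, (hH p.2).2, mul_inv_cancel_right]⟩
      one_smul := fun x => Subtype.ext (show 1 * x.1 * (1 : G)⁻¹ = x.1 by group)
      mul_smul := fun p r x => Subtype.ext (show ((p * r : zpowers F.g5) : G) * x.1 * ((p * r : zpowers F.g5) : G)⁻¹ =
        p * (r * x.1 * (r : G)⁻¹) * (p : G)⁻¹ by rw [Subgroup.coe_mul]; group) }
  have hcard : Nat.card X = 512 := by
    rw [← hQ]
    refine (Nat.card_congr (Equiv.ofBijective
      (fun k : Q => (⟨c * k.1, mul_z hcz (S.qz k.2), by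
        rw [S.act'_mul hcz (S.qz k.2), S.act'_q k.2, mul_one, hcA']⟩ : X)) ⟨?_, ?_⟩)).symm
    · intro k k' e
      exact Subtype.ext (mul_left_cancel (congrArg Subtype.val e))
    · rintro ⟨x, hxz, hxA⟩
      refine ⟨⟨c⁻¹ * x, (S.act'_one_iff (mul_z (inv_z hcz) hxz)).1 ?_⟩, Subtype.ext ?_⟩
      · rw [S.act'_mul (inv_z hcz) hxz, S.act'_inv hcz, hcA', hxA, inv_mul_cancel]
      · exact mul_inv_cancel_left _ _
  have hP : IsPGroup 5 (zpowers F.g5) := IsPGroup.of_card (n := 1) (by rw [Nat.card_zpowers, F.order5, pow_one])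
  obtain ⟨x, hx⟩ := hP.nonempty_fixed_point_of_prime_not_dvd_card X (by rw [hcard]; norm_num)
  have := congrArg Subtype.val (hx ⟨F.g5, mem_zpowers _⟩)
  exact ⟨x.1, x.2.1, mul_inv_eq_iff_eq_mul.1 this, x.2.2⟩

/-- A lift of an element of odd order centralises both. -/
theorem lift_Y {A : O8} (hA : A ∈ blk pW) {n : ℕ} (hn : A ^ n = 1) (hodd : Odd n) :
    ∃ x ∈ F.Y, x * z = z * x ∧ S.act' x = A := by
  obtain ⟨x, hxz, hx5, hxA⟩ := F.exists_lift hQ hA
  have hxn : x ^ n ∈ perpQ S pW := by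
    refine F.mem_R_of_comm ((S.act'_one_iff ((show Commute x z from hxz).pow_left n).eq).1 ?_)
      ((show Commute F.g5 x from hx5).pow_right n).eq
    rw [← hn, ← hxA]
    clear hn hA hxA hodd
    induction n with
    | zero => rw [pow_zero, pow_zero, S.act'_q Q.one_mem]
    | succ n ih => rw [pow_succ, pow_succ, S.act'_mul ((show Commute x z from hxz).pow_left n).eq hxz, ih]
  -- the orthogonal part is centralised
  have h2 : ∀ k ∈ perpQ S pU, x * k = k * x := by
    rintro k ⟨hk, hkv⟩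
    obtain ⟨b, hb⟩ := blockW.span _ hkv
    obtain ⟨c, hc⟩ := blockW.five_move b
    obtain ⟨k', hk', hk'v⟩ := S.F.surj (comb pW c)
    have hkk : F.g5 * k' * F.g5⁻¹ ∈ Q := S.h.conj_mem F.g5z hk'
    set y := F.g5 * k' * F.g5⁻¹ * k' with hy
    obtain ⟨u, hu⟩ : ∃ u, k = zp z u * y := by
      have h0 : S.F.vec (k * y⁻¹) = 0 := by
        rw [S.F.vec_mul hk (Q.inv_mem (Q.mul_mem hkk hk')), S.vec_inv (Q.mul_mem hkk hk'),
          S.F.vec_mul hkk hk', S.vec_conj F.g5z hk', F.act5, act_five blockW, hk'v, ← hc, hb, add_self_V]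
      rcases S.F.vec_cases (Q.mul_mem hk (Q.inv_mem (Q.mul_mem hkk hk'))) h0 with e | e
      · exact ⟨0, by rw [zp_zero, one_mul]; exact mul_inv_eq_one.1 e⟩
      · exact ⟨1, by rw [zp_one]; exact mul_inv_eq_iff_eq_mul.1 e⟩
    obtain ⟨t, ht⟩ : ∃ t, x * k' * x⁻¹ = zp z t * k' := by
      have hm : x * k' * x⁻¹ * k'⁻¹ ∈ Q := Q.mul_mem (S.h.conj_mem hxz hk') (Q.inv_mem hk')
      have h0 : S.F.vec (x * k' * x⁻¹ * k'⁻¹) = 0 := by
        rw [S.F.vec_mul (S.h.conj_mem hxz hk') (Q.inv_mem hk'), S.vec_inv hk', S.vec_conj hxz hk', hxA, hk'v,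
          act_comb hA.2, add_self_V]
      rcases S.F.vec_cases hm h0 with e | e
      · exact ⟨0, by rw [zp_zero, one_mul]; exact mul_inv_eq_one.1 e⟩
      · exact ⟨1, by rw [zp_one]; exact mul_inv_eq_iff_eq_mul.1 e⟩
    have hxy : x * y * x⁻¹ = y := by
      calc x * y * x⁻¹ = (x * F.g5) * k' * (x * F.g5)⁻¹ * (x * k' * x⁻¹) := by rw [hy]; group
        _ = F.g5 * (x * k' * x⁻¹) * F.g5⁻¹ * (x * k' * x⁻¹) := by rw [← hx5]; group
        _ = (F.g5 * zp z t * F.g5⁻¹) * (F.g5 * k' * F.g5⁻¹ * zp z t) * k' := by rw [ht]; group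
        _ = zp z t * (zp z t * (F.g5 * k' * F.g5⁻¹)) * k' := by
          rw [zp_comm F.g5z, mul_inv_cancel_right, zp_comm (S.qz hkk)]
        _ = y := by
          rw [← mul_assoc (zp z t), ← zp_add S.h.zz, CharTwo.add_self_eq_zero, zp_zero, one_mul, hy]
    rw [hu]
    exact ((show Commute x (zp z u) from zp_comm hxz u).mul_right (mul_inv_eq_iff_eq_mul.1 hxy)).eq
  set δ := x * F.g3 * x⁻¹ * F.g3⁻¹ with hδ
  have hδz : δ * z = z * δ := mul_z (mul_z (mul_z hxz F.g3z) (inv_z hxz)) (inv_z F.g3z)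
  have hδQ : δ ∈ Q := by
    refine (S.act'_one_iff hδz).1 ?_
    rw [hδ, S.act'_mul (mul_z (mul_z hxz F.g3z) (inv_z hxz)) (inv_z F.g3z),
      S.act'_mul (mul_z hxz F.g3z) (inv_z hxz), S.act'_mul hxz F.g3z, S.act'_inv hxz, S.act'_inv F.g3z, hxA,
      F.act3, comm_blocks hA (three_blk blockW)]
    group
  have hnorm : ∀ r ∈ perpQ S pW, x⁻¹ * r * x ∈ perpQ S pW := by
    intro r hr
    refine F.mem_R_of_comm (by simpa using S.h.conj_mem (inv_z hxz) hr.1) ?_
    have h5 : Commute F.g5 r := (F.mem_Y.1 (F.R_le hr)).1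
    exact (((show Commute F.g5 x from hx5).inv_right.mul_right h5).mul_right hx5).eq
  have hδR : δ ∈ perpQ S pU := by
    refine ⟨hδQ, fun i => ?_⟩
    obtain ⟨r, hr, hrv⟩ := S.F.surj (pU i)
    have hrR : r ∈ perpQ S pW := ⟨hr, fun j => by rw [hrv]; exact blockU.orth i j⟩
    have hcomm : r * δ = δ * r := by
      have h3 : ∀ {w}, w ∈ perpQ S pW → F.g3⁻¹ * w * F.g3 = w := fun {w} hw => by
        rw [mul_assoc, ← (F.mem_Y.1 (F.R_le hw)).2, inv_mul_cancel_left]
      have e : δ⁻¹ * r * δ = r := by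
        calc δ⁻¹ * r * δ = F.g3 * (x * (F.g3⁻¹ * (x⁻¹ * r * x) * F.g3) * x⁻¹) * F.g3⁻¹ := by rw [hδ]; group
          _ = F.g3 * r * F.g3⁻¹ := by rw [h3 (hnorm r hrR)]; group
          _ = r := by rw [(F.mem_Y.1 (F.R_le hrR)).2, mul_inv_cancel_right]
      rw [mul_assoc] at e
      exact inv_mul_eq_iff_eq_mul.1 e
    have := (S.comm_iff hr hδQ).1 hcomm
    rwa [hrv] at this
  have hxg : x * F.g3 = δ * F.g3 * x := by rw [hδ]; group
  have key : ∀ m : ℕ, x ^ m * F.g3 = δ ^ m * F.g3 * x ^ m := by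
    intro m
    induction m with
    | zero => simp
    | succ m ih =>
      calc x ^ (m + 1) * F.g3 = x * (x ^ m * F.g3) := by rw [pow_succ', mul_assoc]
        _ = (x * δ ^ m) * F.g3 * x ^ m := by rw [ih]; group
        _ = δ ^ m * (x * F.g3) * x ^ m := by
          rw [((show Commute x δ from h2 δ hδR).pow_right m).eq]; group
        _ = δ ^ (m + 1) * F.g3 * x ^ (m + 1) := by rw [hxg, pow_succ, pow_succ']; group
  have hδn : δ ^ n = 1 := by
    have h := key n
    rw [← (F.mem_Y.1 (F.R_le hxn)).2, mul_assoc] at h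
    exact mul_eq_right.1 h.symm
  have hδ4 : δ ^ 4 = 1 := by
    rw [show (4 : ℕ) = 2 * 2 from rfl, pow_mul, pow_two, pow_two]
    rcases S.h.sq_cases hδQ with e | e <;> rw [e]
    · exact one_mul 1
    · exact S.h.zz
  have hδ1 : δ = 1 := by
    have hg : Nat.gcd n 4 = 1 := by
      show Nat.Coprime n (2 ^ 2)
      exact Nat.Coprime.pow_right 2 (Nat.coprime_two_right.2 hodd)
    have : δ ^ Nat.gcd n 4 = 1 := pow_gcd_eq_one.2 ⟨hδn, hδ4⟩
    rwa [hg, pow_one] at this
  refine ⟨x, F.mem_Y.2 ⟨hx5, ?_⟩, hxz, hxA⟩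
  rw [hxg, hδ1, one_mul]

/-! ### The centralizer of the involution -/

omit hQ in
/-- An element of `C(z)` commuting with the element of order five permutes the blocks. -/
theorem maps {c : G} (hcz : c * z = z * c) (h5 : F.g5 * c = c * F.g5) :
    S.act' c * five pW = five pW * S.act' c ∧ (∀ i, ∃ j, act (S.act' c) (pU i) = pU j) ∧
      ∀ i, ∃ j, act (S.act' c) (pW i) = pW j := by
  have hc : S.act' c * five pW = five pW * S.act' c := by
    rw [← F.act5, ← S.act'_mul hcz F.g5z, ← S.act'_mul F.g5z hcz, h5]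
  have hU : ∀ i, ∃ j, act (S.act' c) (pU i) = pU j := fun i => by
    obtain ⟨h1, h2⟩ := blockU.sing i
    obtain ⟨j, hj⟩ := blockU.recog (act (S.act' c) (pU i)) (fun e => h2 (by
        rw [← act_inv_self (S.act' c) (pU i), e, act_zero])) (by rw [act_qf, h1])
      (blockW.five_fix _ (by rw [← act_five blockW, ← act_mul, ← hc, act_mul, act_five blockW, (blockW.five i).2]))
    exact ⟨j, hj.symm⟩
  choose σ hσ using hU
  have hinj : Function.Injective σ := fun i j e => blockU.inj i j (by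
    rw [← act_inv_self (S.act' c) (pU i), hσ, e, ← hσ, act_inv_self])
  exact ⟨hc, fun i => ⟨σ i, hσ i⟩, fun i => exists_map blockW hinj hσ i⟩

omit hQ in
theorem act_mem_blk {c : G} (hc : c ∈ F.Y) (hcz : c * z = z * c) : S.act' c ∈ blk pW := by
  obtain ⟨h5, h3⟩ := F.mem_Y.1 hc
  obtain ⟨hc5, -, hW⟩ := F.maps hcz h5
  have hc3 : S.act' c * three pW = three pW * S.act' c := by
    rw [← F.act3, ← S.act'_mul hcz F.g3z, ← S.act'_mul F.g3z hcz, h3]
  exact ⟨S.act'_omega c, fix_of_comm blockW hc5 hc3 hW⟩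

/-- The centralizer of `z` in the centralizer. -/
abbrev Cy : Subgroup ↥F.Y := centralizer ({⟨z, F.z_Y⟩} : Set ↥F.Y)

omit hQ in
theorem cy_z (c : F.Cy) : ((c : F.Y) : G) * z = z * ((c : F.Y) : G) :=
  congrArg Subtype.val (mem_centralizer_singleton_iff.1 c.2)

/-- The action on `V`. -/
noncomputable def rho : F.Cy →* O8 :=
  MonoidHom.mk' (fun c => S.act' ((c : F.Y) : G)) fun c c' => by
    simp only [Subgroup.coe_mul]
    exact S.act'_mul (F.cy_z c) (F.cy_z c')

omit hQ in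
theorem rho_ker {c : F.Cy} : c ∈ F.rho.ker ↔ ((c : F.Y) : G) ∈ perpQ S pW := by
  rw [MonoidHom.mem_ker]
  show S.act' ((c : F.Y) : G) = 1 ↔ _
  rw [S.act'_one_iff (F.cy_z c)]
  exact ⟨fun h => F.mem_R_of_comm h (F.mem_Y.1 (c : F.Y).2).1, fun h => h.1⟩

/-- The kernel is the orthogonal part. -/
noncomputable def kerEquiv : F.rho.ker ≃* ↥(perpQ S pW) where
  toFun c := ⟨((c.1 : F.Y) : G), F.rho_ker.1 c.2⟩
  invFun k := ⟨⟨⟨k, F.R_le k.2⟩, mem_centralizer_singleton_iff.2 (Subtype.ext (S.qz k.2.1))⟩, F.rho_ker.2 k.2⟩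
  left_inv _ := rfl
  right_inv _ := rfl
  map_mul' _ _ := rfl

theorem blk_le : blk pW ≤ F.rho.range ∧ Nonempty (F.rho.range ≃* alternatingGroup (Fin 5)) := by
  have hle : F.rho.range ≤ blk pW := by
    rintro _ ⟨c, rfl⟩
    exact F.act_mem_blk (c : F.Y).2 (F.cy_z c)
  have hmem : ∀ {A : O8} {n : ℕ}, A ∈ blk pW → A ^ n = 1 → Odd n → A ∈ F.rho.range := by
    intro A n hA hn hodd
    obtain ⟨x, hx, hxz, hxA⟩ := F.lift_Y hQ hA hn hodd
    exact ⟨⟨⟨x, hx⟩, mem_centralizer_singleton_iff.2 (Subtype.ext hxz)⟩, hxA⟩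
  have h5 := hmem (five_blk blockU) (five_pow_eq blockU) (by decide)
  have h3 := hmem (three_blk blockU) (three_pow_eq blockU) (by decide)
  haveI : Fact (Nat.Prime 5) := ⟨by norm_num⟩
  haveI : Fact (Nat.Prime 3) := ⟨by norm_num⟩
  have d5 : 5 ∣ Nat.card F.rho.range :=
    orderOf_eq_prime (five_pow_eq blockU) (five_ne blockU) ▸ Subgroup.orderOf_dvd_natCard _ h5
  have d3 : 3 ∣ Nat.card F.rho.range :=
    orderOf_eq_prime (three_pow_eq blockU) (three_ne blockU) ▸ Subgroup.orderOf_dvd_natCard _ h3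
  have d15 : 15 ∣ Nat.card F.rho.range := Nat.Coprime.mul_dvd_of_dvd_of_dvd (by norm_num) d3 d5
  obtain ⟨e1'⟩ := block_equiv blockU extU _ hle d15
  obtain ⟨e2'⟩ := block_equiv blockU extU _ le_rfl (d15.trans (card_dvd_of_le hle))
  refine ⟨(eq_of_le_of_card_ge hle ?_).ge, ⟨e1'⟩⟩
  rw [Nat.card_congr e1'.toEquiv, Nat.card_congr e2'.toEquiv]

/-- An element of `C(z)` commuting with the element of order five and fixing the second space lies in it. -/
theorem mem_Y_of_blk {c : G} (hcz : c * z = z * c) (h5 : F.g5 * c = c * F.g5) (hA : S.act' c ∈ blk pW) :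
    c ∈ F.Y := by
  obtain ⟨y, hy⟩ := (F.blk_le hQ).1 hA
  have hy' : S.act' ((y : F.Y) : G) = S.act' c := hy
  have hyz := F.cy_z y
  have hk : ((y : F.Y) : G)⁻¹ * c ∈ perpQ S pW := by
    refine F.mem_R_of_comm ((S.act'_one_iff (mul_z (inv_z hyz) hcz)).1 ?_) ?_
    · rw [S.act'_mul (inv_z hyz) hcz, S.act'_inv hyz, hy', inv_mul_cancel]
    · exact ((show Commute F.g5 ((y : F.Y) : G) from (F.mem_Y.1 (y : F.Y).2).1).inv_right.mul_right h5).eq
  have := F.Y.mul_mem (y : F.Y).2 (F.R_le hk)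
  rwa [mul_inv_cancel_left] at this

end Five

end Cfsg.Agent.ConwayType.JTwo
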