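import Cfsg.Agent.Lib.ConwayType.JTwo.Hall
import Cfsg.Agent.Lib.ConwayType.Octad.M24
import Cfsg.Agent.Lib.ConwayType.Main

/-!
The Hall–Janko group as the layer of the centralizer of an element of order five in a group of Conway type.
-/

set_option autoImplicit false
set_option maxRecDepth 20000

namespace Cfsg.Agent.ConwayType.JTwo

open Subgroup Cfsg.Agent.LargeExtra Cfsg.Agent.OctadInv.Orbits
open Cfsg.Agent.ConwayType.Octad (Gen Rel card_orbit_mul)

variable {G : Type*} [Group G] [Finite G]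

theorem centralizer_map_conj (h : G) (K : Subgroup G) :
    centralizer ((K.map (MulAut.conj h).toMonoidHom : Subgroup G) : Set G) =
      (centralizer (K : Set G)).map (MulAut.conj h).toMonoidHom := by
  ext x
  rw [mem_map_equiv, mem_centralizer_iff, mem_centralizer_iff]
  constructor
  · intro hx k hk
    apply (MulAut.conj h).injective
    rw [map_mul, map_mul, MulEquiv.apply_symm_apply]
    exact hx _ ⟨k, hk, rfl⟩
  · rintro hx _ ⟨k, hk, rfl⟩
    have := congrArg (MulAut.conj h) (hx k hk)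
    rwa [map_mul, map_mul, MulEquiv.apply_symm_apply] at this

/-- The conclusion from the centralizer. -/
theorem layer_of_product {B L : Subgroup G} (hB : Nat.card B = 5) (hJ : Cfsg.Spor.IsoJ2 L)
    (hC : centralizer (B : Set G) = B ⊔ L) (hd : Disjoint B L)
    (hM : Nonempty (↥(centralizer (L : Set G)) ≃* alternatingGroup (Fin 5))) :
    Cfsg.Spor.IsoJ2 ↥(Cfsg.layer ↥(centralizer (B : Set G))) ∧
      Nonempty (↥(centralizer (((Cfsg.layer ↥(centralizer (B : Set G))).map (Subgroup.subtype _)) : Set G)) ≃*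
        alternatingGroup (Fin 5)) := by
  set C := centralizer (B : Set G)
  obtain ⟨hsimple, p, q, hpq⟩ := S1620.result
  obtain ⟨eJ⟩ := hJ
  haveI := hsimple
  haveI hLs : IsSimpleGroup L := by
    haveI : Nontrivial L := eJ.toEquiv.nontrivial
    exact eJ.isSimpleGroup
  have hcen : center L = ⊥ := by
    refine ((inferInstance : (center L).Normal).eq_bot_or_eq_top).resolve_right fun e => ?_
    have h := mem_center_iff.1 (e ▸ mem_top (eJ.symm q) : eJ.symm q ∈ center L) (eJ.symm p)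
    exact hpq (eJ.symm.injective (by rw [map_mul, map_mul, h]))
  have hperf : Group.IsPerfect L := by
    rw [Group.isPerfect_def]
    refine ((inferInstance : (commutator L).Normal).eq_bot_or_eq_top).resolve_left fun e => ?_
    have h : center L = ⊤ := (commutator_eq_bot_iff_center_eq_top _).1 e
    rw [hcen] at h
    exact bot_ne_top h
  have hLC : L ≤ C := hC ▸ le_sup_right
  have hBC : B ≤ C := hC ▸ le_sup_left
  have hcomm : ∀ b ∈ B, ∀ l ∈ L, b * l = l * b := fun b hb l hl => mem_centralizer_iff.1 (hLC hl) b hb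
  have hBL : L ≤ normalizer (B : Set G) := hLC.trans (centralizer_le_normalizer _)
  have hdec : ∀ g ∈ C, ∃ b ∈ B, ∃ l ∈ L, g = b * l := by
    intro g hg
    rw [hC, Cfsg.Agent.Coprime.mem_sup_of_le_normalizer hBL] at hg
    obtain ⟨b, hb, l, hl, e⟩ := hg
    exact ⟨b, hb, l, hl, e.symm⟩
  set L' := L.subgroupOf C
  haveI hN : L'.Normal := ⟨fun x hx g => by
    obtain ⟨b, hb, l, hl, e⟩ := hdec g g.2
    rw [mem_subgroupOf, Subgroup.coe_mul, Subgroup.coe_mul, InvMemClass.coe_inv, e]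
    have hmem := L.mul_mem (L.mul_mem hl (mem_subgroupOf.1 hx)) (L.inv_mem hl)
    rw [show b * l * (x : G) * (b * l)⁻¹ = b * (l * x * l⁻¹) * b⁻¹ by group, hcomm b hb _ hmem,
      mul_inv_cancel_right]
    exact hmem⟩
  let eL : L' ≃* L := subgroupOfEquivOfLe hLC
  have hq : Cfsg.IsQuasisimple L' := by
    refine Cfsg.Agent.Components.Basic.quasisimple_of_mulEquiv eL.symm ⟨hperf, ?_⟩
    exact MulEquiv.isSimpleGroup ((QuotientGroup.quotientMulEquivOfEq hcen).trans QuotientGroup.quotientBot)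
  have hcomp : Cfsg.IsComponent L' := ⟨hN.isSubnormal, hq⟩
  have hlayer : Cfsg.layer C = L' := by
    refine le_antisymm (Cfsg.Agent.Components.Basic.layer_le fun K hK => ?_)
      (Cfsg.Agent.Components.Basic.le_layer hcomp)
    refine (Cfsg.Agent.Components.Basic.component_le_or_commutator_eq_bot hK hN.isSubnormal).resolve_right fun h0 => ?_
    have hKB : K ≤ B.subgroupOf C := by
      intro k hk
      obtain ⟨b, hb, l, hl, e⟩ := hdec k k.2
      have hlc : (⟨l, hl⟩ : L) ∈ center L := mem_center_iff.2 fun x => Subtype.ext (by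
        have h := congrArg Subtype.val
          (mem_centralizer_iff.1 ((commutator_eq_bot_iff_le_centralizer.1 h0) hk) ⟨x.1, hLC x.2⟩ x.2)
        simp only [Subgroup.coe_mul] at h ⊢
        rw [e, ← mul_assoc, ← hcomm b hb x.1 x.2, mul_assoc, mul_assoc] at h
        exact mul_left_cancel h)
      rw [hcen, mem_bot, Subtype.ext_iff] at hlc
      rw [mem_subgroupOf, e, show l = 1 from hlc, mul_one]
      exact hb
    haveI : Fact (Nat.Prime 5) := ⟨by norm_num⟩
    haveI : Group.IsNilpotent (B.subgroupOf C) :=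
      (IsPGroup.of_card (p := 5) (n := 1)
        (by rw [Nat.card_congr (subgroupOfEquivOfLe hBC).toEquiv, hB, pow_one])).isNilpotent
    exact Cfsg.Agent.Components.Basic.component_not_le_of_isSolvable hK inferInstance hKB
  rw [hlayer, map_subgroupOf_eq_of_le hLC]
  exact ⟨⟨eL.trans eJ⟩, hM⟩

variable {Q Q' : Subgroup G} {z a : G} (S : St Q Q' z a)

theorem card_singular : Fintype.card {v : V // v ≠ 0 ∧ qf v = 0} = 135 := by decide +kernel

include S in
/-- The order of the centralizer of `z` and `a`. -/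
theorem card_cen (hQ : Nat.card Q = 512) :
    270 * Nat.card (centralizer {z} ⊓ centralizer {a} : Subgroup G) = 512 * 174182400 := by
  have hker : S.F.π.ker = Q.subgroupOf (centralizer {z}) := by
    ext c
    rw [MonoidHom.mem_ker, S.F.ker, mem_subgroupOf]
  have hQC : Q ≤ centralizer {z} := fun x hx => mem_centralizer_singleton_iff.2 (S.qz hx)
  have hrange : S.F.π.range = Cfsg.Omega (ZMod 2) ⇑F8 := by
    ext A
    exact ⟨fun ⟨c, e⟩ => e ▸ S.F.mem_omega c, fun hA => S.F.lift A hA⟩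
  have hcz : Nat.card (centralizer ({z} : Set G)) = 512 * 174182400 := by
    rw [← card_mul_index S.F.π.ker, index_ker, hrange, card_omega, hker,
      Nat.card_congr (subgroupOfEquivOfLe hQC).toEquiv, hQ]
  have horb : {y | Rel (centralizer {z}) a y}.ncard = 270 := by
    classical
    choose r hr hrv using fun v => S.F.surj v
    let f : ZMod 2 × {v : V // v ≠ 0 ∧ qf v = 0} → G := fun p => zp z p.1 * r p.2.1
    have hfv : ∀ p, f p ∈ Q ∧ S.F.vec (f p) = p.2.1 := fun p =>
      ⟨Q.mul_mem (S.zp_mem _) (hr _), by rw [S.F.vec_mul (S.zp_mem _) (hr _), S.vec_zp, hrv, zero_add]⟩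
    have hinj : Function.Injective f := by
      rintro ⟨t, v⟩ ⟨t', v'⟩ e
      obtain rfl : v = v' := Subtype.ext (by rw [← (hfv (t, v)).2, e, (hfv (t', v')).2])
      have h1 : zp z t = zp z t' := mul_right_cancel (e : zp z t * r v.1 = zp z t' * r v.1)
      rcases z2 t with rfl | rfl <;> rcases z2 t' with rfl | rfl
      · rfl
      · rw [zp_zero, zp_one] at h1; exact absurd h1.symm S.h.ne_one
      · rw [zp_zero, zp_one] at h1; exact absurd h1 S.h.ne_one
      · rfl
    have e : {y | Rel (centralizer {z}) a y} = Set.range f := by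
      ext y
      constructor
      · rintro ⟨c, hc, rfl⟩
        have hcz := mem_centralizer_singleton_iff.1 hc
        have hmem := S.h.conj_mem hcz S.mem_a
        have hv := S.vec_conj hcz S.mem_a
        rw [S.F.vec_a] at hv
        set v : {v : V // v ≠ 0 ∧ qf v = 0} := ⟨act (S.act' c) e1, fun h0 => absurd (show e1 = (0 : V) by
          rw [← act_inv_self (S.act' c) e1, h0, act_zero]) (by decide +kernel), by rw [act_qf]; rfl⟩
        have h1 := Q.mul_mem hmem (Q.inv_mem (hr v.1))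
        have h0 : S.F.vec (c * a * c⁻¹ * (r v.1)⁻¹) = 0 := by
          rw [S.F.vec_mul hmem (Q.inv_mem (hr _)), S.vec_inv (hr _), hrv, hv, add_self_V]
        rcases S.F.vec_cases h1 h0 with e | e
        · exact ⟨(0, v), by show zp z 0 * r v.1 = _; rw [zp_zero, one_mul, mul_inv_eq_one.1 e]⟩
        · exact ⟨(1, v), by show zp z 1 * r v.1 = _; rw [zp_one, ← mul_inv_eq_iff_eq_mul.1 e]⟩
      · rintro ⟨p, rfl⟩
        obtain ⟨hm, hv⟩ := hfv p
        obtain ⟨A, hA, hAv⟩ := exists_to_e1 p.2.2.1 p.2.2.2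
        obtain ⟨⟨c, hc⟩, hcA⟩ := S.F.lift A hA
        have hcz := mem_centralizer_singleton_iff.1 hc
        have himg : S.F.vec (c * f p * c⁻¹) = sm 1 e1 := by
          rw [S.vec_conj hcz hm, hv, S.act'_def hcz, hcA, hAv, sm_one]
        obtain ⟨t, ht⟩ := S.eq_zp (S.h.conj_mem hcz hm) himg
        rw [zp_one] at ht
        obtain ⟨q, hq, hqa⟩ := S.P.p.exists_swap
        rcases z2 t with rfl | rfl
        · refine ⟨c⁻¹, (centralizer {z}).inv_mem hc, ?_⟩
          rw [zp_zero, one_mul] at ht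
          rw [← ht]; group
        · refine ⟨c⁻¹ * q, mul_mem ((centralizer {z}).inv_mem hc) (mem_centralizer_singleton_iff.2 (S.qz hq)), ?_⟩
          rw [zp_one] at ht
          rw [show c⁻¹ * q * a * (c⁻¹ * q)⁻¹ = c⁻¹ * (q * a * q⁻¹) * c by group, hqa, ← ht]; group
    rw [e, Set.ncard_range_of_injective hinj, Nat.card_prod, Nat.card_eq_fintype_card, ZMod.card,
      Nat.card_eq_fintype_card, card_singular]
  rw [← horb, card_orbit_mul, hcz]

/-- A subgroup of order five commuting with `z` and `a` is conjugate to the standard one. -/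
theorem exists_conj_five {d : Gen S} (F : Five d) (hQ : Nat.card Q = 512) {B : Subgroup G} (hB : Nat.card B = 5)
    (hz : ∀ b ∈ B, b * z = z * b) (ha : ∀ b ∈ B, b * a = a * b) :
    ∃ h : G, B = (zpowers F.g5).map (MulAut.conj h).toMonoidHom := by
  haveI : Fact (Nat.Prime 5) := ⟨by norm_num⟩
  set K := (centralizer {z} ⊓ centralizer {a} : Subgroup G)
  have hK : ¬ 5 ^ 2 ∣ Nat.card K := fun h => by
    have h2 := dvd_trans (Nat.mul_dvd_mul (show 5 ∣ 270 by norm_num) h) (dvd_of_eq (card_cen S hQ))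
    norm_num at h2
  have hBK : B ≤ K := fun b hb =>
    ⟨mem_centralizer_singleton_iff.2 (hz b hb), mem_centralizer_singleton_iff.2 (ha b hb)⟩
  have hgK : zpowers F.g5 ≤ K :=
    zpowers_le.2 ⟨mem_centralizer_singleton_iff.2 F.h5.1.1.1, mem_centralizer_singleton_iff.2 F.h5.1.1.2⟩
  have hfact : (Nat.card K).factorization 5 = 1 := by
    have h5 : 5 ∣ Nat.card K := hB ▸ card_dvd_of_le hBK
    have h1 := (Nat.Prime.pow_dvd_iff_le_factorization (by norm_num : Nat.Prime 5) Nat.card_pos.ne').not.1 hK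
    have h2 := (Nat.Prime.pow_dvd_iff_le_factorization (k := 1) (by norm_num : Nat.Prime 5) Nat.card_pos.ne').1
      (by rwa [pow_one])
    omega
  let P1 : Sylow 5 K := Sylow.ofCard (B.subgroupOf K) (by
    rw [Nat.card_congr (subgroupOfEquivOfLe hBK).toEquiv, hB, hfact, pow_one])
  let P2 : Sylow 5 K := Sylow.ofCard ((zpowers F.g5).subgroupOf K) (by
    rw [Nat.card_congr (subgroupOfEquivOfLe hgK).toEquiv, Nat.card_zpowers, F.order5, hfact, pow_one])
  obtain ⟨k, hk⟩ := MulAction.exists_smul_eq K P2 P1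
  refine ⟨(k : G), ?_⟩
  have h := congrArg (fun P : Sylow 5 K => (P : Subgroup K).map K.subtype) hk
  simp only [Sylow.coe_subgroup_smul, P1, P2, Sylow.coe_ofCard] at h
  rw [map_subgroupOf_eq_of_le hBK] at h
  rw [← h]
  ext x
  constructor
  · rintro ⟨y, ⟨w, hw, rfl⟩, rfl⟩
    exact ⟨(w : G), mem_subgroupOf.1 hw, rfl⟩
  · rintro ⟨w, hw, rfl⟩
    exact ⟨_, ⟨⟨w, hgK hw⟩, mem_subgroupOf.2 hw, rfl⟩, rfl⟩

/-- A subgroup of order at least `32` of `Q` has an involution other than `z`. -/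
theorem exists_invol (h : Ctr Q z) {T : Subgroup G} (hT : T ≤ Q) (hcard : 32 ≤ Nat.card T) :
    ∃ x ∈ T, x * x = 1 ∧ x ≠ 1 ∧ x ≠ z := by
  classical
  have pick : ∀ {U : Subgroup G} (s : Finset G), s.card < Nat.card U → ∃ x ∈ U, x ∉ s := by
    intro U s hs
    by_contra hc
    push Not at hc
    have := Nat.card_le_card_of_injective (fun u : U => (⟨u.1, hc u.1 u.2⟩ : s)) fun u v e =>
      Subtype.ext (congrArg (fun w : s => (w : G)) e)
    rw [Nat.card_eq_finsetCard] at this
    omega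
  obtain ⟨x1, hx1, hx1'⟩ := pick (U := T) {1, z} (lt_of_le_of_lt Finset.card_le_two (by omega))
  simp only [Finset.mem_insert, Finset.mem_singleton, not_or] at hx1'
  rcases h.sq_cases (hT hx1) with e | e
  · exact ⟨x1, hx1, e, hx1'⟩
  have hsmall : {y | Rel T x1 y}.ncard ≤ 2 := by
    refine le_trans (Set.ncard_le_ncard (t := ({x1, z * x1} : Set G)) ?_) (Set.ncard_insert_le _ _ |>.trans (by simp))
    rintro y ⟨m, hm, rfl⟩
    exact h.conj_cases (hT hm) (hT hx1)
  have hU := card_orbit_mul T x1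
  obtain ⟨x2, hx2, hx2'⟩ := pick (U := T ⊓ centralizer {x1}) {1, z, x1, z * x1}
    (lt_of_le_of_lt Finset.card_le_four (by nlinarith [Nat.card_pos (α := ↥(T ⊓ centralizer {x1} : Subgroup G))]))
  simp only [Finset.mem_insert, Finset.mem_singleton, not_or] at hx2'
  rcases h.sq_cases (hT hx2.1) with e2 | e2
  · exact ⟨x2, hx2.1, e2, hx2'.1, hx2'.2.1⟩
  have hc := mem_centralizer_singleton_iff.1 hx2.2
  refine ⟨x2 * x1, T.mul_mem hx2.1 hx1, ?_, fun e0 => ?_, fun e0 => ?_⟩
  · rw [show x2 * x1 * (x2 * x1) = x2 * (x1 * x2) * x1 by group, ← hc, ← mul_assoc x2, mul_assoc, e, e2, h.zz]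
  · refine hx2'.2.2.2 ?_
    rw [eq_inv_of_mul_eq_one_left e0, inv_eq_iff_mul_eq_one, show x1 * (z * x1) = z * (x1 * x1) by
      rw [← mul_assoc, h.comm (hT hx1), mul_assoc], e, h.zz]
  · refine hx2'.2.2.1 ?_
    rw [eq_mul_inv_of_mul_eq e0]
    nth_rewrite 1 [← e]
    rw [mul_inv_cancel_right]

end Cfsg.Agent.ConwayType.JTwo

namespace Cfsg.Agent.ConwayType.JTwo

open Subgroup Cfsg.Agent.LargeExtra
open Cfsg.Agent.ConwayType.Octad (exists_good)

theorem j2_local {G : Type*} [Group G] [Finite G] (z : G) (hz : orderOf z = 2)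
    (Q : Subgroup (centralizer ({z} : Set G))) [Q.Normal]
    (hF : Cfsg.generalizedFittingSubgroup (centralizer ({z} : Set G)) = Q) (hQ : Cfsg.IsExtraspecial 2 Q)
    (hcard : Nat.card Q = 2 ^ 9)
    (e : (centralizer ({z} : Set G)) ⧸ Q ≃* Cfsg.Omega (ZMod 2) (Cfsg.quadFormPlus 4 (ZMod 2)))
    (hnwc : ∃ g : G, (∃ hq : g * z * g⁻¹ ∈ centralizer ({z} : Set G),
      (⟨g * z * g⁻¹, hq⟩ : centralizer ({z} : Set G)) ∈ Q) ∧ g * z * g⁻¹ ≠ z)
    (B : Subgroup (centralizer ({z} : Set G))) (hB : Nat.card B = 5)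
    (hCQcard : Nat.card ↥(Q ⊓ centralizer (B : Set (centralizer ({z} : Set G)))) = 32) :
    Cfsg.Spor.IsoJ2 ↥(Cfsg.layer ↥(centralizer ((B.map (Subgroup.subtype _)) : Set G))) ∧
      Nonempty (↥(centralizer (((Cfsg.layer ↥(centralizer ((B.map (Subgroup.subtype _)) : Set G))).map
        (Subgroup.subtype _)) : Set G)) ≃* alternatingGroup (Fin 5)) := by
  classical
  set Q0 := Q.map (centralizer ({z} : Set G)).subtype with hQ0
  have hc0 : Nat.card ↥Q0 = 512 := by
    rw [hQ0, card_map_of_injective (centralizer ({z} : Set G)).subtype_injective, hcard]; norm_num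
  have h : Ctr Q0 z := Ctr.of_fitting hz (map_subtype_le _) (by rw [hF])
    (isExtraspecial_of_equiv hQ (Q.equivMapOfInjective _ (centralizer ({z} : Set G)).subtype_injective))
  have heF : Cfsg.Omega (ZMod 2) (Cfsg.quadFormPlus 4 (ZMod 2)) ≃* ↥(Cfsg.Omega (ZMod 2) ⇑F8) := by
    rw [show F8 = Forms.PlusStd.plusQ (ZMod 2) 4 from rfl, Classical.OrthForms.plusQ_eq]
  let π0 : ↥(centralizer ({z} : Set G)) →* ↥(Cfsg.Omega (ZMod 2) ⇑F8) :=
    heF.toMonoidHom.comp (e.toMonoidHom.comp (QuotientGroup.mk' Q))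
  have hsurj : Function.Surjective π0 :=
    heF.surjective.comp (e.surjective.comp (QuotientGroup.mk'_surjective Q))
  have hker : ∀ c, π0 c = 1 ↔ (c : G) ∈ Q0 := fun c => by
    show heF (e (QuotientGroup.mk' Q c)) = 1 ↔ _
    rw [MulEquiv.map_eq_one_iff, MulEquiv.map_eq_one_iff]
    refine (QuotientGroup.eq_one_iff c).trans ⟨fun hc => ⟨c, hc, rfl⟩, ?_⟩
    rintro ⟨d, hd, hdc⟩
    rwa [← Subtype.ext hdc]
  have build : ∀ {g : G}, g * z * g⁻¹ ∈ Q0 → g * z * g⁻¹ ≠ z →
      ∃ Q' : Subgroup G, Nonempty (St Q0 Q' z (g * z * g⁻¹)) := by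
    intro g hgQ0 hgz
    have P := (Pair.mk' h hgQ0 hgz).two (by omega)
    have ha1 : g * z * g⁻¹ ≠ 1 := fun e0 => h.ne_one (conj_eq_one_iff.1 e0)
    have haa : g * z * g⁻¹ * (g * z * g⁻¹) = 1 := by rw [conj_mul, h.zz, mul_one, mul_inv_cancel]
    obtain ⟨F⟩ := frame_exists h hc0 π0 hsurj hker hgQ0 haa ha1 hgz
    exact ⟨_, ⟨⟨P, F⟩⟩⟩
  obtain ⟨g, ⟨hgC, hgQ⟩, hgz⟩ := hnwc
  obtain ⟨_, ⟨S0⟩⟩ := build (g := g) ⟨_, hgQ, rfl⟩ hgz
  set B0 := B.map (centralizer ({z} : Set G)).subtype with hB0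
  have hB5 : Nat.card B0 = 5 := by rw [hB0, card_map_of_injective (centralizer ({z} : Set G)).subtype_injective, hB]
  set T := (Q ⊓ centralizer (B : Set (centralizer ({z} : Set G)))).map (centralizer ({z} : Set G)).subtype
  obtain ⟨x, hxT, hxx, hx1, hxz⟩ := exists_invol h (T := T) (map_mono inf_le_left)
    (by rw [card_map_of_injective (centralizer ({z} : Set G)).subtype_injective, hCQcard])
  have hxQ : x ∈ Q0 := map_mono inf_le_left hxT
  obtain ⟨g', hg'⟩ := isConj_iff.1 (S0.conj_of_mem hxQ hxx hx1).symm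
  obtain ⟨Q', ⟨S'⟩⟩ := build (g := g') (hg'.symm ▸ hxQ) (hg'.symm ▸ hxz)
  obtain ⟨S, d, -⟩ := exists_good S'
  obtain ⟨F⟩ := exists_five d
  have hBz : ∀ b ∈ B0, b * z = z * b := by
    rintro _ ⟨b, -, rfl⟩
    exact mem_centralizer_singleton_iff.1 b.2
  have hBa : ∀ b ∈ B0, b * (g' * z * g'⁻¹) = g' * z * g'⁻¹ * b := by
    rintro _ ⟨b, hb, rfl⟩
    rw [hg']
    obtain ⟨y, hy, rfl⟩ := hxT
    exact congrArg Subtype.val (mem_centralizer_iff.1 hy.2 b hb)
  obtain ⟨k, hk⟩ := exists_conj_five S F hc0 hB5 hBz hBa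
  set σ := MulAut.conj k
  set L := F.Y.map σ.toMonoidHom
  have eY : F.Y ≃* L := F.Y.equivMapOfInjective _ σ.injective
  refine layer_of_product hB5 (L := L) ?_ ?_ ?_ ?_
  · obtain ⟨eJ⟩ := F.Y_iso hc0
    exact ⟨eY.symm.trans eJ⟩
  · rw [hk, centralizer_map_conj, F.centralizer_five hc0, Subgroup.map_sup]
  · rw [hk]
    exact disjoint_map σ.injective F.disjoint_five
  · obtain ⟨eM⟩ := F.M_iso
    rw [centralizer_map_conj]
    exact ⟨((centralizer (F.Y : Set G)).equivMapOfInjective _ σ.injective).symm.trans eM⟩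

end Cfsg.Agent.ConwayType.JTwo
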